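import Cfsg.Prelude.Def_Involutions
import Cfsg.Agent.LocalEven64.SzBinary.Generic

/-!
Binary coset actions of simple groups with one class of involutions: commuting involutions have
the same fixed points, and the stabiliser of such a set of fixed points is strongly embedded.
-/

set_option autoImplicit false

namespace Cfsg.Agent.BinaryOne28

open MulAction
open Cfsg.Agent.LocalEven64.SzBinary (IsBinary)

variable {G : Type*} [Group G] [Finite G] {H : Subgroup G}

theorem mul_self_of_orderOf {g : G} (hg : orderOf g = 2) : g * g = 1 := by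
  have := pow_orderOf_eq_one g
  rwa [hg, pow_two] at this

theorem ne_one_of_orderOf {g : G} (hg : orderOf g = 2) : g ≠ 1 := fun e => by simp [e] at hg

omit [Finite G] in
/-- Conjugate elements have the same number of fixed points. -/
theorem ncard_fixedBy_eq_of_isConj {x y : G} (h : IsConj x y) :
    (fixedBy (G ⧸ H) x).ncard = (fixedBy (G ⧸ H) y).ncard := by
  obtain ⟨c, hc⟩ := isConj_iff.1 h
  subst hc
  refine Set.ncard_congr (fun p _ => c • p) ?_ ?_ ?_
  · intro p hp
    rw [mem_fixedBy] at hp ⊢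
    rw [mul_smul, mul_smul, inv_smul_smul, hp]
  · intro p p' _ _ e
    exact smul_left_cancel c e
  · intro p hp
    rw [mem_fixedBy, mul_smul, mul_smul, smul_eq_iff_eq_inv_smul] at hp
    exact ⟨c⁻¹ • p, by rw [mem_fixedBy, hp], smul_inv_smul c p⟩

omit [Finite G] in
theorem fixedBy_conj' (c x : G) (p : G ⧸ H) :
    p ∈ fixedBy (G ⧸ H) (c * x * c⁻¹) ↔ c⁻¹ • p ∈ fixedBy (G ⧸ H) x := by
  rw [mem_fixedBy, mem_fixedBy, mul_smul, mul_smul, smul_eq_iff_eq_inv_smul]

/-- Commuting involutions fix the same points. -/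
theorem fixedBy_eq_of_commute (hb : IsBinary H)
    (hone : ∀ s t : G, orderOf s = 2 → orderOf t = 2 → IsConj s t) (heven : Even (Nat.card H))
    {g h : G} (hg : orderOf g = 2) (hh : orderOf h = 2) (hc : Commute g h) :
    fixedBy (G ⧸ H) g = fixedBy (G ⧸ H) h := by
  classical
  haveI : Fact (Nat.Prime 2) := ⟨Nat.prime_two⟩
  by_cases hgh : g = h
  · rw [hgh]
  have hgg := mul_self_of_orderOf hg
  have hhh := mul_self_of_orderOf hh
  set k := g * h with hk
  have hk2 : orderOf k = 2 := by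
    refine orderOf_eq_prime ?_ fun e => hgh ?_
    · rw [pow_two, hk]
      calc g * h * (g * h) = g * (h * g) * h := by group
        _ = (g * g) * (h * h) := by rw [← hc.eq]; group
        _ = 1 := by rw [hgg, hhh, one_mul]
    · rw [mul_eq_one_iff_eq_inv] at e
      rw [e, inv_eq_of_mul_eq_one_right hhh]
  set Fg := fixedBy (G ⧸ H) g with hFg
  set Fh := fixedBy (G ⧸ H) h with hFh
  set Fk := fixedBy (G ⧸ H) k with hFk
  have hcard : ∀ {x y : G}, orderOf x = 2 → orderOf y = 2 →
      (fixedBy (G ⧸ H) x).ncard = (fixedBy (G ⧸ H) y).ncard := fun hx hy =>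
    ncard_fixedBy_eq_of_isConj (hone _ _ hx hy)
  have hsub : ∀ {x y : G}, orderOf x = 2 → orderOf y = 2 →
      fixedBy (G ⧸ H) x ⊆ fixedBy (G ⧸ H) y → fixedBy (G ⧸ H) x = fixedBy (G ⧸ H) y :=
    fun hx hy h' => Set.eq_of_subset_of_ncard_le h' (hcard hy hx).le (Set.toFinite _)
  -- `h` and `g` agree on `Fk`
  have hagree : ∀ p ∈ Fk, h • p = g • p := by
    intro p hp
    rw [hFk, mem_fixedBy, hk, mul_smul] at hp
    calc h • p = (g * g) • (h • p) := by rw [hgg, one_smul]
      _ = g • p := by rw [mul_smul, hp]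
  -- a base point
  obtain ⟨p0, hp0⟩ : Fg.Nonempty := by
    obtain ⟨z, hz⟩ := exists_prime_orderOf_dvd_card' 2 (even_iff_two_dvd.1 heven)
    have hz2 : orderOf (z : G) = 2 := by rw [Subgroup.orderOf_coe, hz]
    refine (Set.ncard_pos (Set.toFinite _)).1 ?_
    rw [hFg, hcard hg hz2]
    refine (Set.ncard_pos (Set.toFinite _)).2 ⟨((1 : G) : G ⧸ H), ?_⟩
    rw [mem_fixedBy, Quotient.smul_mk, smul_eq_mul, mul_one, QuotientGroup.eq, mul_one]
    exact inv_mem z.2
  -- the two tuples
  haveI : Fintype (G ⧸ H) := Fintype.ofFinite _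
  set N := Fintype.card (G ⧸ H)
  let e := (Fintype.equivFin (G ⧸ H)).symm
  let pt : Fin (N + 2) → G ⧸ H := fun i =>
    if hi : (i : ℕ) < N then (if e ⟨i, hi⟩ ∈ Fg ∪ Fh ∪ Fk then e ⟨i, hi⟩ else p0) else p0
  let τ : G ⧸ H → G ⧸ H := fun p => if p ∈ Fg ∪ Fh then p else g • p
  have hτk : ∀ p ∈ Fk, τ p = g • p := by
    intro p hp
    simp only [τ]
    split_ifs with hp'
    · rcases hp' with hp' | hp'
      · exact hp'.symm
      · rw [← hagree p hp]; exact hp'.symm
    · rfl
  have hτu : ∀ p ∈ Fg ∪ Fh, τ p = p := fun p hp => if_pos hp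
  have hmem : ∀ i, pt i ∈ Fg ∪ Fh ∪ Fk := by
    intro i
    simp only [pt]
    split_ifs with hi hmem
    · exact hmem
    · exact Or.inl (Or.inl hp0)
    · exact Or.inl (Or.inl hp0)
  have hpair : ∀ p ∈ Fg ∪ Fh ∪ Fk, ∀ r ∈ Fg ∪ Fh ∪ Fk,
      ∃ u : G, u • p = τ p ∧ u • r = τ r := by
    have hmix : ∀ p ∈ Fg ∪ Fh, ∀ r ∈ Fk, ∃ u : G, u • p = τ p ∧ u • r = τ r := by
      intro p hp r hr
      rcases hp with hp | hp
      · exact ⟨g, by rw [hτu p (Or.inl hp)]; exact hp, (hτk r hr).symm⟩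
      · exact ⟨h, by rw [hτu p (Or.inr hp)]; exact hp, by rw [hτk r hr, hagree r hr]⟩
    rintro p (hp | hp) r (hr | hr)
    · exact ⟨1, by rw [one_smul, hτu p hp], by rw [one_smul, hτu r hr]⟩
    · exact hmix p hp r hr
    · obtain ⟨u, h1, h2⟩ := hmix r hr p hp
      exact ⟨u, h2, h1⟩
    · exact ⟨g, (hτk p hp).symm, (hτk r hr).symm⟩
  obtain ⟨u, hu⟩ := hb (N + 2) pt (fun i => τ (pt i)) (by omega)
    (fun i j _ => hpair _ (hmem i) _ (hmem j))
  have hu' : ∀ p ∈ Fg ∪ Fh ∪ Fk, u • p = τ p := by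
    intro p hp
    have hi : ((e.symm p : Fin N) : ℕ) < N := (e.symm p).2
    have := hu ⟨(e.symm p : Fin N), by omega⟩
    have hpt : pt ⟨(e.symm p : Fin N), by omega⟩ = p := by
      simp only [pt, dif_pos hi, Fin.eta, Equiv.apply_symm_apply, if_pos hp]
    rwa [hpt] at this
  by_cases htriv : ∀ p ∈ Fk, g • p = p
  · have e1 : Fk = Fg := hsub hk2 hg htriv
    refine hsub hg hh fun p hp => ?_
    have hpk : p ∈ Fk := e1 ▸ hp
    rw [mem_fixedBy, hagree p hpk]
    exact hp
  · push Not at htriv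
    obtain ⟨r, hr, hgr⟩ := htriv
    have hgrk : g • r ∈ Fk := by
      rw [hFk, mem_fixedBy, ← mul_smul, show k * g = g * k by
        rw [hk, mul_assoc, ← hc.eq], mul_smul, hr]
    have hu2 : (u * u) • r = r := by
      rw [mul_smul, hu' r (Or.inr hr), hτk r hr, hu' _ (Or.inr hgrk), hτk _ hgrk, ← mul_smul,
        hgg, one_smul]
    have hur : u • r ≠ r := by rw [hu' r (Or.inr hr), hτk r hr]; exact hgr
    have hev : 2 ∣ orderOf u := by
      by_contra hodd
      obtain ⟨m, hm⟩ := Nat.odd_iff.2 (Nat.two_dvd_ne_zero.1 hodd)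
      apply hur
      have hfix : (u * u) ∈ stabilizer G r := hu2
      have h' : (u * u) ^ (m + 1) = u := by
        rw [← pow_two, ← pow_mul, show 2 * (m + 1) = orderOf u + 1 by omega, pow_succ,
          pow_orderOf_eq_one, one_mul]
      exact h' ▸ pow_mem hfix (m + 1)
    have hw : orderOf (u ^ (orderOf u / 2)) = 2 :=
      orderOf_pow_orderOf_div (orderOf_pos u).ne' hev
    have hwfix : Fg ∪ Fh ⊆ fixedBy (G ⧸ H) (u ^ (orderOf u / 2)) := by
      intro p hp
      have : u ∈ stabilizer G p := by rw [mem_stabilizer_iff, hu' p (Or.inl hp), hτu p hp]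
      exact pow_mem this _
    exact (hsub hg hw (Set.subset_union_left.trans hwfix)).trans
      (hsub hh hw (Set.subset_union_right.trans hwfix)).symm

/-- An involution commuting with one in `H` lies in `H`. -/
theorem mem_of_commute (hb : IsBinary H)
    (hone : ∀ s t : G, orderOf s = 2 → orderOf t = 2 → IsConj s t) {g h : G} (hg : orderOf g = 2)
    (hgH : g ∈ H) (hh : orderOf h = 2) (hc : Commute g h) : h ∈ H := by
  have heven : Even (Nat.card H) :=
    even_iff_two_dvd.2 (hg ▸ H.orderOf_dvd_natCard hgH)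
  have key : ∀ x : G, ((1 : G) : G ⧸ H) ∈ fixedBy (G ⧸ H) x ↔ x ∈ H := fun x => by
    rw [mem_fixedBy, Quotient.smul_mk, smul_eq_mul, mul_one, QuotientGroup.eq, mul_one, inv_mem_iff]
  rw [← key, ← fixedBy_eq_of_commute hb hone heven hg hh hc, key]
  exact hgH

/-- A simple group with one class of involutions and a binary action with point stabilisers of
even order has a strongly embedded subgroup. -/
theorem exists_stronglyEmbedded [IsSimpleGroup G] (hb : IsBinary H)
    (hone : ∀ s t : G, orderOf s = 2 → orderOf t = 2 → IsConj s t) (hH : H ≠ ⊤)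
    (heven : Even (Nat.card H)) : ∃ M : Subgroup G, Cfsg.IsStronglyEmbedded M := by
  classical
  haveI : Fact (Nat.Prime 2) := ⟨Nat.prime_two⟩
  obtain ⟨z0, hz0⟩ := exists_prime_orderOf_dvd_card' 2 (even_iff_two_dvd.1 heven)
  set z : G := (z0 : G)
  have hz : orderOf z = 2 := by rw [Subgroup.orderOf_coe, hz0]
  have hcm := fun {a b : G} (ha : orderOf a = 2) (hb' : orderOf b = 2) (hc : Commute a b) =>
    fixedBy_eq_of_commute hb hone heven ha hb' hc
  set F := fixedBy (G ⧸ H) z with hFdef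
  have hbase : ((1 : G) : G ⧸ H) ∈ F := by
    rw [hFdef, mem_fixedBy, Quotient.smul_mk, smul_eq_mul, mul_one, QuotientGroup.eq, mul_one]
    exact inv_mem z0.2
  -- the setwise stabiliser of `F`
  let M : Subgroup G :=
    { carrier := {m | fixedBy (G ⧸ H) (m * z * m⁻¹) = F}
      one_mem' := by simp [F]
      mul_mem' := by
        intro a b ha hb'
        show fixedBy (G ⧸ H) (a * b * z * (a * b)⁻¹) = F
        ext p
        have h1 := Set.ext_iff.1 hb' (a⁻¹ • p)
        have h2 := Set.ext_iff.1 ha p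
        rw [fixedBy_conj'] at h1 h2
        rw [fixedBy_conj', mul_inv_rev, mul_smul, h1, h2]
      inv_mem' := by
        intro a ha
        show fixedBy (G ⧸ H) (a⁻¹ * z * a⁻¹⁻¹) = F
        ext p
        have h2 := Set.ext_iff.1 ha (a • p)
        rw [fixedBy_conj', inv_smul_smul] at h2
        rw [fixedBy_conj', inv_inv]
        exact h2.symm }
  have hMmem : ∀ m, m ∈ M ↔ fixedBy (G ⧸ H) (m * z * m⁻¹) = F := fun m => Iff.rfl
  have hord : ∀ g x : G, orderOf (g * x * g⁻¹) = orderOf x := fun g x =>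
    (MulAut.conj g).orderOf_eq x
  have hzM : z ∈ M := by rw [hMmem, mul_inv_cancel_right]
  -- every involution of `M` fixes exactly `F`
  obtain ⟨S, hzS⟩ : ∃ S : Sylow 2 G, z ∈ (S : Subgroup G) := by
    obtain ⟨S, hS⟩ := (IsPGroup.of_card (n := 1) (G := Subgroup.zpowers z)
      (by rw [Nat.card_zpowers, hz, pow_one])).exists_le_sylow
    exact ⟨S, hS (Subgroup.mem_zpowers z)⟩
  haveI : Nontrivial (S : Subgroup G) :=
    ⟨⟨z, hzS⟩, 1, fun e => ne_one_of_orderOf hz (congrArg Subtype.val e)⟩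
  obtain ⟨c0, hc0⟩ : ∃ c0 : Subgroup.center (S : Subgroup G), orderOf c0 = 2 := by
    haveI := S.2.center_nontrivial
    refine exists_prime_orderOf_dvd_card' 2 ?_
    rcases (S.2.to_subgroup (Subgroup.center (S : Subgroup G))).card_eq_or_dvd with h0 | h0
    · exact absurd h0 Finite.one_lt_card.ne'
    · exact h0
  set c : G := ((c0 : (S : Subgroup G)) : G)
  have hc2 : orderOf c = 2 := by rw [Subgroup.orderOf_coe, Subgroup.orderOf_coe, hc0]
  have hcS : ∀ s ∈ (S : Subgroup G), Commute c s := fun s hs =>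
    (congrArg Subtype.val (Subgroup.mem_center_iff.1 c0.2 ⟨s, hs⟩)).symm
  have hFc : fixedBy (G ⧸ H) c = F := hcm hc2 hz (hcS z hzS)
  have hSF : ∀ x ∈ (S : Subgroup G), orderOf x = 2 → fixedBy (G ⧸ H) x = F := fun x hx hx2 =>
    (hcm hx2 hc2 (hcS x hx).symm).trans hFc
  have hSM : (S : Subgroup G) ≤ M := fun s hs => by
    rw [hMmem]
    exact hSF _ (mul_mem (mul_mem hs hzS) (inv_mem hs)) (by rw [hord, hz])
  have hMinv : ∀ x ∈ M, orderOf x = 2 → fixedBy (G ⧸ H) x = F := by
    intro x hxM hx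
    have hp : IsPGroup 2 (Subgroup.zpowers (⟨x, hxM⟩ : M)) :=
      IsPGroup.of_card (n := 1) (by rw [Nat.card_zpowers, Subgroup.orderOf_mk, hx, pow_one])
    obtain ⟨P, hP⟩ := hp.exists_le_sylow
    obtain ⟨m, hm⟩ := MulAction.exists_smul_eq M P (S.subtype hSM)
    have hmem : m * ⟨x, hxM⟩ * m⁻¹ ∈ ((S.subtype hSM : Sylow 2 M) : Subgroup M) := by
      rw [← hm, Sylow.coe_subgroup_smul]
      exact Subgroup.smul_mem_pointwise_smul _ _ _ (hP (Subgroup.mem_zpowers _))
    have h1 : fixedBy (G ⧸ H) ((m : G) * x * (m : G)⁻¹) = F :=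
      hSF _ hmem (by rw [hord, hx])
    have h2 : fixedBy (G ⧸ H) (((m⁻¹ : M) : G) * z * ((m⁻¹ : M) : G)⁻¹) = F := (m⁻¹ : M).2
    ext p
    have h1' := Set.ext_iff.1 h1 ((m : G) • p)
    rw [fixedBy_conj', inv_smul_smul] at h1'
    have h2' := Set.ext_iff.1 h2 p
    rw [fixedBy_conj', Subgroup.coe_inv, inv_inv] at h2'
    rw [h1', h2']
  refine ⟨M, fun htop => hH ?_, even_iff_two_dvd.2 (hz ▸ M.orderOf_dvd_natCard hzM), ?_⟩
  · -- otherwise every conjugate of `z` lies in `H`
    have hle : Subgroup.normalClosure {z} ≤ H := by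
      refine (Subgroup.closure_le _).2 fun y hy => ?_
      obtain ⟨a, ha, hay⟩ := Group.mem_conjugatesOfSet_iff.1 hy
      rw [Set.mem_singleton_iff] at ha
      subst ha
      obtain ⟨m, hm⟩ := isConj_iff.1 hay
      have hmM : m ∈ M := htop ▸ Subgroup.mem_top m
      rw [hMmem, hm] at hmM
      have := hmM ▸ hbase
      rw [mem_fixedBy, Quotient.smul_mk, smul_eq_mul, mul_one, QuotientGroup.eq, mul_one,
        inv_mem_iff] at this
      exact this
    have hne : Subgroup.normalClosure {z} ≠ ⊥ := fun e => ne_one_of_orderOf hz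
      (Subgroup.mem_bot.1 (e ▸ Subgroup.subset_normalClosure (Set.mem_singleton z)))
    rw [((Subgroup.normalClosure_normal (s := {z})).eq_bot_or_eq_top.resolve_left hne), top_le_iff]
      at hle
    exact hle
  · intro g hg
    by_contra hodd
    rw [Nat.not_odd_iff_even] at hodd
    obtain ⟨x0, hx0⟩ := exists_prime_orderOf_dvd_card' 2 (even_iff_two_dvd.1 hodd)
    obtain ⟨hxM, hxg⟩ := Subgroup.mem_inf.1 x0.2
    have hx : orderOf (x0 : G) = 2 := by rw [Subgroup.orderOf_coe, hx0]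
    generalize (x0 : G) = x at hx hxM hxg
    obtain ⟨y, hy, rfl⟩ := hxg
    change orderOf (g * y * g⁻¹) = 2 at hx
    rw [hord] at hx
    have h1 : fixedBy (G ⧸ H) (g * y * g⁻¹) = F := hMinv _ hxM (by rw [hord, hx])
    have h2 := hMinv y hy hx
    refine hg ((hMmem g).2 ?_)
    ext p
    have h1' := Set.ext_iff.1 h1 p
    rw [fixedBy_conj', h2] at h1'
    rw [fixedBy_conj', ← hFdef]
    exact h1'

end Cfsg.Agent.BinaryOne28
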