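import Cfsg.Agent.BinaryOne28.U3Witness

/-!
Root groups of `PSU₃(q)` in characteristic two and the binary action on their cosets.
-/

set_option autoImplicit false

namespace Cfsg.Agent.BinaryOne28

open Matrix Cfsg.Agent.Unitary Cfsg.Agent.AutPSU Cfsg.Agent.MinIndexU3
open Cfsg.Agent.LocalEven64.SzBinary (IsBinary)

variable {F : Type*} [Field F] [Fintype F] [CharP F 2] {q : ℕ} (hF : Fintype.card F = q ^ 2)

include hF

theorem piU_tv_inj {u v : Fin 3 → F} {hu : herm q u u = 0} {hv : herm q v v = 0} {c d : F}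
    {hc : c + c ^ q = 0} {hd : d + d ^ q = 0} (hv0 : v ≠ 0)
    (he : piU 3 F q (tv hF hu hc) = piU 3 F q (tv hF hv hd)) (x : Fin 3 → F) :
    (c * herm q x u) • u = (d * herm q x v) • v := by
  have h1 := piU_Qel_eq hF (by norm_num) hv0 (u := u) (u' := v) (w := 0) (w' := 0) (b := c) (b' := d)
    (hu := hu) (hwu := herm_zero_left u) (hb := by rw [hc, herm_zero_left, neg_zero]) (hu' := hv)
    (hwu' := herm_zero_left v) (hb' := by rw [hd, herm_zero_left, neg_zero]) he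
  have h2 := congrArg (fun k : SU 3 F q => k • x) h1
  change tv hF hu hc • x = tv hF hv hd • x at h2
  rwa [tv_smul, tv_smul, add_right_inj] at h2

theorem tv_sq {u : Fin 3 → F} (hu : herm q u u = 0) {c : F} (hc : c + c ^ q = 0) :
    tv hF hu hc * tv hF hu hc = 1 := by
  refine eq_of_smul_eq_SU fun x => ?_
  rw [mul_smul, one_smul, tv_smul, tv_smul, herm_add_left, herm_smul_left, hu, mul_zero, add_zero,
    add_assoc, ← add_smul, CharTwo.add_self_eq_zero, zero_smul, add_zero]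

theorem tv_comm {u : Fin 3 → F} (hu : herm q u u = 0) {c d : F} (hc : c + c ^ q = 0)
    (hd : d + d ^ q = 0) : Commute (tv hF hu hc) (tv hF hu hd) := by
  refine eq_of_smul_eq_SU fun x => ?_
  simp only [mul_smul, tv_smul, herm_add_left, herm_smul_left, hu]
  module

theorem exists_herm_one {u : Fin 3 → F} (hu0 : u ≠ 0) : ∃ x : Fin 3 → F, herm q x u = 1 := by
  obtain ⟨i, hi⟩ := Function.ne_iff.1 hu0
  refine ⟨(u i ^ q)⁻¹ • eI i, ?_⟩
  rw [herm_smul_left, herm_eI_left, inv_mul_cancel₀ (mt (pow_q_eq_zero_iff hF).1 hi)]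

theorem orderOf_tv {u : Fin 3 → F} (hu : herm q u u = 0) (hu0 : u ≠ 0) {c : F}
    (hc : c + c ^ q = 0) (hc0 : c ≠ 0) : orderOf (piU 3 F q (tv hF hu hc)) = 2 := by
  haveI : Fact (Nat.Prime 2) := ⟨Nat.prime_two⟩
  refine orderOf_eq_prime (by rw [pow_two, ← map_mul, tv_sq hF hu hc, map_one]) fun e => ?_
  obtain ⟨x, hx⟩ := exists_herm_one hF hu0
  have h0 : (0 : F) + 0 ^ q = 0 := by rw [zero_pow_q hF, add_zero]
  have h1 := piU_tv_inj hF hu0 (hu := hu) (hv := hu) (hc := hc) (hd := h0) (by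
    rw [e, ← map_one (piU 3 F q)]
    exact congrArg _ (eq_of_smul_eq_SU fun x => by rw [one_smul, tv_smul]; simp)) x
  rw [hx, zero_mul, zero_smul, mul_one] at h1
  exact (smul_ne_zero hc0 hu0) h1

/-- Commuting transvections have the same point. -/
theorem line_of_commute {u v : Fin 3 → F} (hu : herm q u u = 0) (hu0 : u ≠ 0)
    (hv : herm q v v = 0) (hv0 : v ≠ 0) {c d : F} (hc : c + c ^ q = 0) (hc0 : c ≠ 0)
    (hd : d + d ^ q = 0) (hd0 : d ≠ 0)
    (hcomm : Commute (piU 3 F q (tv hF hu hc)) (piU 3 F q (tv hF hv hd))) :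
    ∃ k : F, k ≠ 0 ∧ v = k • u := by
  have h1 : piU 3 F q (tv hF hu hc * tv hF hv hd * (tv hF hu hc)⁻¹) = piU 3 F q (tv hF hv hd) := by
    rw [map_mul, map_mul, map_inv, hcomm.eq, mul_inv_cancel_right]
  rw [conj_tv] at h1
  obtain ⟨x, hx⟩ := exists_herm_one hF hv0
  have h2 := piU_tv_inj hF hv0 h1 (tv hF hu hc • x)
  rw [herm_smul_SU, hx, mul_one, tv_smul hF hu hc v, smul_add, smul_smul] at h2
  obtain ⟨f, w, hf⟩ := exists_frame hF hu hu0
  by_cases hvu : herm q v u = 0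
  · refine ⟨herm q v f, fun e => hv0 ?_, eq_smul_of_orth hF hf hv hvu⟩
    rw [eq_smul_of_orth hF hf hv hvu, e, zero_smul]
  · set m := d * herm q (tv hF hu hc • x) v - d
    have hcoef : d * (c * herm q v u) ≠ 0 := mul_ne_zero hd0 (mul_ne_zero hc0 hvu)
    have h3 : (d * (c * herm q v u)) • u = m • v := by
      rw [sub_smul, eq_sub_iff_add_eq, add_comm, ← h2]
    have hm : m ≠ 0 := fun e => by
      rw [e, zero_smul] at h3
      exact smul_ne_zero hcoef hu0 h3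
    exact ⟨m⁻¹ * (d * (c * herm q v u)), mul_ne_zero (inv_ne_zero hm) hcoef, by
      rw [mul_smul, h3, inv_smul_smul₀ hm]⟩

theorem Tgrp_smul {u : Fin 3 → F} (hu : herm q u u = 0) {k : F} (hk : k ≠ 0)
    (hku : herm q (k • u) (k • u) = 0) : Tgrp hF hku = Tgrp hF hu := by
  rw [Tgrp, Tgrp, rootGroup_eq hF (hu := hu) (hu' := hku) hk rfl]

theorem map_conj_Tgrp (g : SU 3 F q) {u : Fin 3 → F} (hu : herm q u u = 0) :
    (Tgrp hF hu).map (MulAut.conj (piU 3 F q g)).toMonoidHom =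
      Tgrp hF ((herm_smul_SU g u u).trans hu) := by
  ext x
  constructor
  · rintro ⟨y, hy, rfl⟩
    obtain ⟨c, hc, rfl⟩ := (mem_Tgrp hF).1 hy
    refine (mem_Tgrp hF).2 ⟨c, hc, ?_⟩
    simp [← conj_tv hF g hu hc]
  · intro hx
    obtain ⟨c, hc, rfl⟩ := (mem_Tgrp hF).1 hx
    refine ⟨_, tv_mem_Tgrp hF hu hc, ?_⟩
    simp [← conj_tv hF g hu hc]

/-- The action on the cosets of a root group is binary. -/
theorem binary_Tgrp {u : Fin 3 → F} (hu : herm q u u = 0) (hu0 : u ≠ 0) :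
    IsBinary (Tgrp hF hu) := by
  refine LocalEven64.SzBinary.binary_of_prod fun g₁ g₂ g₃ x y hx hy hx1 hy1 hxy z hz => ?_
  obtain ⟨g₁, rfl⟩ := piU_surjective g₁
  obtain ⟨g₂, rfl⟩ := piU_surjective g₂
  have key : ∀ (g : SU 3 F q) (x : PSU 3 F q),
      (piU 3 F q g)⁻¹ * x * piU 3 F q g ∈ Tgrp hF hu ↔
        x ∈ Tgrp hF ((herm_smul_SU g u u).trans hu) := by
    intro g x
    rw [← map_conj_Tgrp hF g hu, Subgroup.mem_map_equiv, MulAut.conj_symm_apply]
  rw [key] at hx1 hy1 hz ⊢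
  have hinv : ∀ {g : SU 3 F q} {a : PSU 3 F q},
      a ∈ Tgrp hF ((herm_smul_SU g u u).trans hu) → a * a = 1 := by
    intro g a ha
    obtain ⟨c, hc, rfl⟩ := (mem_Tgrp hF).1 ha
    rw [← map_mul, tv_sq, map_one]
  have hcomm : Commute x y := by
    obtain ⟨c3, hc3, h3⟩ := (mem_Tgrp hF).1 hxy
    have e : x * y * (x * y) = 1 := by
      have e1 : g₃⁻¹ * (x * y) * g₃ * (g₃⁻¹ * (x * y) * g₃) = 1 := by
        rw [h3, ← map_mul, tv_sq, map_one]
      calc x * y * (x * y) = g₃ * (g₃⁻¹ * (x * y) * g₃ * (g₃⁻¹ * (x * y) * g₃)) * g₃⁻¹ := by group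
        _ = 1 := by rw [e1]; group
    show x * y = y * x
    calc x * y = (x * y)⁻¹ := (inv_eq_of_mul_eq_one_right e).symm
      _ = y * x := by
        rw [_root_.mul_inv_rev, inv_eq_of_mul_eq_one_right (hinv hy1),
          inv_eq_of_mul_eq_one_right (hinv hx1)]
  obtain ⟨c, hc, rfl⟩ := (mem_Tgrp hF).1 hx1
  obtain ⟨d, hd, rfl⟩ := (mem_Tgrp hF).1 hy1
  have hne : ∀ {g : SU 3 F q} {c : F} (hc : c + c ^ q = 0),
      piU 3 F q (tv hF ((herm_smul_SU g u u).trans hu) hc) ≠ 1 → c ≠ 0 := by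
    rintro g c hc h rfl
    refine h ?_
    rw [← map_one (piU 3 F q)]
    exact congrArg _ (eq_of_smul_eq_SU fun x => by rw [one_smul, tv_smul]; simp)
  obtain ⟨k, hk, hkv⟩ := line_of_commute hF _ ((smul_ne_zero_iff_ne g₁).2 hu0) _
    ((smul_ne_zero_iff_ne g₂).2 hu0) hc (hne hc hx) hd (hne hd hy) hcomm
  obtain ⟨r, hr, rfl⟩ := (mem_Tgrp hF).1 hz
  rw [← Tgrp_smul hF ((herm_smul_SU g₁ u u).trans hu) hk
    (by rw [← hkv]; exact (herm_smul_SU g₂ u u).trans hu)]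
  simp only [← hkv]
  exact tv_mem_Tgrp hF _ hr

end Cfsg.Agent.BinaryOne28
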