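import Cfsg.Agent.BinaryOne28.Core
import Cfsg.Agent.BinaryOne28.U3Lines
import Cfsg.Agent.Lib.SuzukiTwo.Unitary
import Cfsg.Agent.Lib.Unitary.Simple

/-!
The binary actions of `PSU₃(2ⁿ)` on the cosets of subgroups of even order.
-/

set_option autoImplicit false

namespace Cfsg.Agent.BinaryOne28

open Matrix Cfsg.Agent.Unitary Cfsg.Agent.AutPSU Cfsg.Agent.MinIndexU3
open Cfsg.Agent.LocalEven64.SzBinary (IsBinary)

variable {F : Type*} [Field F] [Fintype F] [CharP F 2] {q : ℕ} (hF : Fintype.card F = q ^ 2)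
variable {H : Subgroup (PSU 3 F q)}

local notation "K" => H.comap (piU 3 F q)

include hF

theorem real_trace {r : F} (hr : r ^ q = r) : r + r ^ q = 0 := by
  rw [hr, CharTwo.add_self_eq_zero]

theorem exists_real (hq : 4 ≤ q) : ∃ r : F, r ^ q = r ∧ r ≠ 0 ∧ r ≠ 1 := by
  classical
  by_contra hcon
  push Not at hcon
  have h1 : Nat.card {x : F // x ^ q = x} ≤ 2 := by
    have hsub : ∀ x : {x : F // x ^ q = x}, (x : F) ∈ ({0, 1} : Finset F) := fun x => by
      by_cases h0 : (x : F) = 0
      · simp [h0]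
      · simp [hcon x x.2 h0]
    refine (Nat.card_le_card_of_injective
      (fun x : {x : F // x ^ q = x} => (⟨x, hsub x⟩ : ({0, 1} : Finset F)))
      fun x y hxy => Subtype.ext (congrArg Subtype.val hxy :)).trans ?_
    rw [Nat.card_eq_finsetCard]
    exact Finset.card_le_two
  rw [card_fixed hF] at h1
  omega

theorem rootGroup_le_comap {u : Fin 3 → F} (hu : herm q u u = 0) (hu0 : u ≠ 0)
    (hmem : ∀ g h : PSU 3 F q, orderOf g = 2 → g ∈ H → orderOf h = 2 → Commute g h → h ∈ H)
    {c : F} (hc : c + c ^ q = 0) (hc0 : c ≠ 0) (hmemc : piU 3 F q (tv hF hu hc) ∈ H) :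
    rootGroup hF hu ≤ K := by
  rintro _ ⟨d, hd, rfl⟩
  by_cases hd0 : d = 0
  · subst hd0
    rw [Subgroup.mem_comap]
    convert one_mem H
    rw [← map_one (piU 3 F q)]
    exact congrArg _ (eq_of_smul_eq_SU fun x => by rw [one_smul, tv_smul]; simp)
  · exact hmem _ _ (orderOf_tv hF hu hu0 hc hc0) hmemc (orderOf_tv hF hu hu0 hd hd0)
      ((tv_comm hF hu hc hd).map _)

omit hF in
theorem conj_mem' {g x : SU 3 F q} (hg : g ∈ K) (hx : x ∈ K) : g * x * g⁻¹ ∈ K :=
  mul_mem (mul_mem hg hx) (inv_mem hg)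

theorem rootGroup_conj_le {u : Fin 3 → F} (hu : herm q u u = 0) (hle : rootGroup hF hu ≤ K)
    {g : SU 3 F q} (hg : g ∈ K) : rootGroup hF ((herm_smul_SU g u u).trans hu) ≤ K := by
  rintro _ ⟨d, hd, rfl⟩
  rw [← conj_tv hF g hu hd]
  exact conj_mem' hg (hle ⟨d, hd, rfl⟩)

theorem rootGroup_smul_le {u : Fin 3 → F} (hu : herm q u u = 0) (hle : rootGroup hF hu ≤ K)
    {k : F} (hk : k ≠ 0) (hku : herm q (k • u) (k • u) = 0) : rootGroup hF hku ≤ K :=
  (rootGroup_eq hF (hu := hu) (hu' := hku) hk rfl).le.trans hle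

/-- The monomial element `tv e c * tv f c⁻¹ * tv e c`. -/
theorem exists_monomial {e v : Fin 3 → F} (hp : HPair q e v) (he : rootGroup hF hp.ee ≤ K)
    (hv : rootGroup hF hp.ff ≤ K) {c : F} (hc : c ^ q = c) (hc0 : c ≠ 0) :
    ∃ g ∈ K, g • e = c⁻¹ • v ∧ g • v = c • e := by
  have h1 := real_trace hF hc
  have h2 := real_trace hF (r := c⁻¹) (by rw [inv_pow, hc])
  have two : (2 : F) = 0 := CharTwo.two_eq_zero
  refine ⟨tv hF hp.ee h1 * tv hF hp.ff h2 * tv hF hp.ee h1,
    mul_mem (mul_mem (he ⟨c, h1, rfl⟩) (hv ⟨_, h2, rfl⟩)) (he ⟨c, h1, rfl⟩), ?_, ?_⟩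
  · simp only [mul_smul, tv_smul, herm_add_left, herm_smul_left, hp.ee, hp.ff, hp.ef, hp.fe hF]
    match_scalars <;> field_simp <;> first | linear_combination two | linear_combination c * two | ring
  · simp only [mul_smul, tv_smul, herm_add_left, herm_smul_left, hp.ee, hp.ff, hp.ef, hp.fe hF]
    match_scalars <;> field_simp <;> first | linear_combination two | linear_combination c * two | ring

/-- The torus of the pair lies in `K`. -/
theorem exists_torus_mem {e v : Fin 3 → F} (hp : HPair q e v) (he : rootGroup hF hp.ee ≤ K)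
    (hv : rootGroup hF hp.ff ≤ K) {r : F} (hr : r ^ q = r) (hr0 : r ≠ 0) :
    ∃ g ∈ K, g • e = r • e ∧ g • v = r⁻¹ • v := by
  obtain ⟨g, hg, g1, g2⟩ := exists_monomial hF hp he hv hr hr0
  obtain ⟨k, hk, k1, k2⟩ := exists_monomial hF hp he hv (one_pow q : (1 : F) ^ q = 1) one_ne_zero
  exact ⟨g * k, mul_mem hg hk, by rw [mul_smul, k1, inv_one, one_smul, g2],
    by rw [mul_smul, k2, one_smul, g1]⟩

/-- The translation parts of the points whose root group lies in `H`. -/
theorem mem_zset_of_point {e f w : Fin 3 → F} (h : Frame3 q e f w) (hq : 4 ≤ q)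
    (he : rootGroup hF h.ee ≤ K) (hf : rootGroup hF h.ff ≤ K) {v : Fin 3 → F}
    (hv : herm q v v = 0) (hve : herm q v e = 1) (hvK : rootGroup hF hv ≤ K) :
    herm q v w ∈ zset hF K h := by
  obtain ⟨r, hr, hr0, hr1⟩ := exists_real hF hq
  have hp : HPair q e v := ⟨h.ee, hv, herm_one_swap hF hve⟩
  obtain ⟨g, hg, g1, g2⟩ := exists_torus_mem hF hp he hvK hr hr0
  obtain ⟨g', hg', g1', g2'⟩ := exists_torus_mem hF ⟨h.ee, h.ff, h.ef⟩ he hf hr hr0
  have hm : mult q r = r := mult_real hF hr0 hr
  refine mem_zset_of_mult_sub_mem hF h K hg g1 (by rw [hm]; exact hr1) ?_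
  have h1 := sub_mem_zset hF h K hg' hg g1' g1
  obtain ⟨b, z, -, k1, k2, -⟩ := h.exists_coords hF g1
  have hfv : f = v - herm q v w • w - herm q v f • e := by
    have hd := h.decomp hF v
    rw [hve, one_smul] at hd
    conv_rhs => arg 1; arg 1; rw [hd]
    module
  have e1 : tau q f w r g = (1 - r) * herm q v w := by
    have hrq1 : r ^ (q - 1) = 1 := by rw [pow_q_sub_one hF hr0, hr, div_self hr0]
    rw [tau]
    conv_lhs => arg 2; rw [hfv, smul_sub, smul_sub, lin, lin, g2, k2, g1]
    simp only [herm_sub_left, herm_add_left, herm_smul_left, h.ew hF, h.ww, hr, hrq1]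
    field_simp
    ring
  have e2 : tau q f w r g' = 0 := by
    rw [tau, g2', herm_smul_left, h.fw hF, mul_zero, mul_zero]
  rw [e1, e2, zero_sub, ← neg_mul, neg_sub] at h1
  rw [hm]
  exact h1

/-- If all translations are present and `f` is a point, then every root group lies in `H`. -/
theorem rootGroup_le_of_full {e f w : Fin 3 → F} (h : Frame3 q e f w)
    (he : rootGroup hF h.ee ≤ K) (hf : rootGroup hF h.ff ≤ K)
    (hfull : ∀ z : F, z ∈ zset hF K h) {v : Fin 3 → F} (hv : herm q v v = 0) (hv0 : v ≠ 0) :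
    rootGroup hF hv ≤ K := by
  by_cases hve : herm q v e = 0
  · have hve' := eq_smul_of_orth hF h hv hve
    have hk : herm q v f ≠ 0 := fun e0 => hv0 (by rw [hve', e0, zero_smul])
    have := rootGroup_smul_le hF h.ee he hk (by rw [← hve']; exact hv)
    simpa only [← hve'] using this
  · set k := herm q v e with hk
    set v' := k⁻¹ • v with hv'
    have hv'v' : herm q v' v' = 0 := by
      rw [hv', herm_smul_left, herm_smul_right hF, hv, mul_zero, mul_zero]
    have hv'e : herm q v' e = 1 := by rw [hv', herm_smul_left, ← hk, inv_mul_cancel₀ hve]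
    have hd := h.decomp hF v'
    rw [hv'e, one_smul] at hd
    have hcond : herm q v' f + herm q v' f ^ q + herm q v' w * herm q v' w ^ q = 0 := by
      have h0 := hv'v'
      conv_lhs at h0 => rw [hd, show herm q v' f • e + f + herm q v' w • w
        = herm q v' f • e + (1 : F) • f + herm q v' w • w by simp, h.herm_comb hF]
      rw [one_pow, mul_one, one_mul] at h0
      exact h0
    obtain ⟨g, g1, g2, -⟩ := exists_unip hF h hcond
    have hgK : g ∈ K := mem_of_tau_sub hF h K he (one_mem _) (a := 1) (by rw [one_smul, g1])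
      (by rw [one_smul, one_smul]) (hfull _)
    have h1 := rootGroup_conj_le hF h.ff hf hgK
    rw [← hd] at g2
    simp only [g2] at h1
    have hvv : v = k • v' := by rw [hv', smul_inv_smul₀ hve]
    have h2 := rootGroup_smul_le hF hv'v' h1 hve (by rw [← hvv]; exact hv)
    simpa only [← hvv] using h2

/-- A binary action of `PSU₃(2ⁿ)` on the cosets of a subgroup of even order. -/
theorem eq_Tgrp_of_binary (hq : 4 ≤ q) (hb : IsBinary H) (hH : H ≠ ⊤) (heven : Even (Nat.card H))
    (hone : ∀ s t : PSU 3 F q, orderOf s = 2 → orderOf t = 2 → IsConj s t) :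
    ∃ (e : Fin 3 → F) (he : herm q e e = 0), e ≠ 0 ∧ H = Tgrp hF he := by
  classical
  haveI : Fact (Nat.Prime 2) := ⟨Nat.prime_two⟩
  have hmem := fun g h hg hgH hh hc =>
    mem_of_commute hb hone (g := g) (h := h) hg hgH hh hc
  have h32 : ¬ (3 = 3 ∧ q = 2) := fun hh => by omega
  -- every involution is a transvection
  obtain ⟨S0, e0, f0, hp0, -, -⟩ := AutPSU.exists_frame (q := q) (F := F) hF (le_refl 3)
  have hone0 : (1 : F) + 1 ^ q = 0 := real_trace hF (one_pow q)
  have hinv : ∀ x : PSU 3 F q, orderOf x = 2 → ∃ (u : Fin 3 → F) (hu : herm q u u = 0)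
      (c : F) (hc : c + c ^ q = 0), u ≠ 0 ∧ c ≠ 0 ∧ x = piU 3 F q (tv hF hu hc) := by
    intro x hx
    obtain ⟨g, hg⟩ := isConj_iff.1 (hone _ x (orderOf_tv hF hp0.ee hp0.e_ne hone0 one_ne_zero) hx)
    obtain ⟨g, rfl⟩ := piU_surjective g
    refine ⟨g • e0, (herm_smul_SU g e0 e0).trans hp0.ee, 1, hone0,
      (smul_ne_zero_iff_ne g).2 hp0.e_ne, one_ne_zero, ?_⟩
    rw [← hg, ← conj_tv hF g hp0.ee hone0, map_mul, map_mul, map_inv]
  obtain ⟨z, hz⟩ := exists_prime_orderOf_dvd_card' 2 (even_iff_two_dvd.1 heven)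
  obtain ⟨e, hee, c, hc, he0, hc0, hzc⟩ := hinv z (by rw [Subgroup.orderOf_coe, hz])
  obtain ⟨f, w, h⟩ := MinIndexU3.exists_frame hF hee he0
  have hZ : rootGroup hF h.ee ≤ K := rootGroup_le_comap hF hee he0 hmem hc hc0 (hzc ▸ z.2)
  refine ⟨e, hee, he0, ?_⟩
  by_cases hA : ∀ (v : Fin 3 → F) (hv : herm q v v = 0), rootGroup hF hv ≤ K → herm q v e = 0
  · -- `H` fixes the point of `e`
    have hstab : ∀ g ∈ K, ∃ c : F, g • e = c • e := fun g hg =>
      ⟨_, eq_smul_of_orth hF h ((herm_smul_SU g e e).trans h.ee)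
        (hA _ _ (rootGroup_conj_le hF h.ee hZ hg))⟩
    by_cases hm : ∃ g ∈ K, ∃ a : F, g • e = a • e ∧ mult q a ≠ 1
    · obtain ⟨g, hg, a, hga, hma⟩ := hm
      by_cases hfull : ∀ z : F, z ∈ zset hF K h
      · by_cases hε : ∃ g ∈ K, ∃ ε : F, g • e = ε • e ∧ ε ^ q ≠ ε
        · obtain ⟨g', hg', ε, hgε, hε⟩ := hε
          exact absurd hb (not_binary_vector hF h hZ hstab hfull hg' hgε hε)
        · push Not at hε
          refine absurd hb (not_binary_triangle hF h hq hZ hstab (hfull 1) one_ne_zero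
            fun g hg c hgc hcn => ?_)
          rw [hε g hg c hgc] at hcn
          have hc1 : c = 1 := by
            have h0 : (c + 1) * (c + 1) = 0 := by
              linear_combination hcn + (c + 1) * CharTwo.two_eq_zero (R := F)
            exact CharTwo.add_eq_zero.1 (mul_self_eq_zero.1 h0)
          rw [hc1, mult_one]
      · push Not at hfull
        obtain ⟨x, hx⟩ := hfull
        exact absurd hb (not_binary_translate hF h hZ hg hga hma hx fun _ _ _ d hd _ => hstab d hd)
    · push Not at hm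
      by_cases hΔ : ∃ Δ ∈ zset hF K h, Δ ≠ (0 : F)
      · obtain ⟨Δ, hΔ, hΔ0⟩ := hΔ
        exact absurd hb (not_binary_triangle hF h hq hZ hstab hΔ hΔ0
          fun g hg c hgc _ => hm g hg c hgc)
      · push Not at hΔ
        refine le_antisymm (fun x hx => ?_) ?_
        · obtain ⟨g, rfl⟩ := piU_surjective x
          have hgK : g ∈ K := hx
          obtain ⟨a, hga⟩ := hstab g hgK
          have ha := eigen_ne_zero hF h hga
          have hma := hm g hgK a hga
          rw [mult_eq hF ha, div_eq_one_iff_eq ha] at hma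
          have haq : a ^ q = a ^ 2 := by
            have := congrArg (fun y => y ^ q) hma
            rw [pow_right_comm, pow_q_pow_q hF] at this
            exact this.symm
          have ha3 : a * a ^ 2 = 1 := by
            rw [haq] at hma
            refine mul_left_cancel₀ ha ?_
            linear_combination hma
          obtain ⟨b, ζ, -, -, g2, -⟩ := h.exists_coords hF hga
          have hpr : ∀ v, Orth2 q e f v → prj q e f (g • v) = a • v := by
            intro v hv
            have hv' : v = herm q v w • w := by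
              have hd := h.decomp hF v
              rwa [hv.1, hv.2, zero_smul, zero_smul, zero_add, zero_add] at hd
            have ha1 : a ^ (q - 1) = a := by
              rw [pow_q_sub_one hF ha, haq]; field_simp
            rw [hv', lin, g2, prj_smul, ha1]
            simp only [prj, herm_add_left, herm_smul_left, h.ee, h.ef, h.we, h.wf]
            module
          obtain ⟨v, hv, b', hb', hgv⟩ := (mem_Ugrp hF (h := ⟨h.ee, h.ff, h.ef⟩)).1
            (mem_Ugrp_of_trivial hF (by norm_num) ⟨h.ee, h.ff, h.ef⟩ (by rw [haq, ha3]) hga hpr)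
          have hv' : v = herm q v w • w := by
            have hd := h.decomp hF v
            rwa [hv.1, hv.2, zero_smul, zero_smul, zero_add, zero_add] at hd
          have hv0 : v = 0 := by
            have hmemz : herm q v w ∈ zset hF K h := by
              refine ⟨Qel hF h.ee hv.1 hb', by rw [Subgroup.mem_comap, ← hgv]; exact hx,
                Qel_e hF ⟨h.ee, h.ff, h.ef⟩ hv hb', ?_⟩
              rw [Qel_f hF ⟨h.ee, h.ff, h.ef⟩ hv hb']
              simp [herm_add_left, herm_smul_left, h.fw hF, h.ew hF]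
            rw [hv', hΔ _ hmemz, zero_smul]
          subst hv0
          refine (mem_Tgrp hF).2 ⟨b', by rw [hb', herm_zero_left, neg_zero], ?_⟩
          rw [hgv]
          rfl
        · intro x hx
          obtain ⟨c, hc, rfl⟩ := (mem_Tgrp hF).1 hx
          exact hZ ⟨c, hc, rfl⟩
  · -- two points
    exfalso
    push Not at hA
    obtain ⟨u, hu, huK, hue⟩ := hA
    set k := (herm q u e)⁻¹ with hk
    set f' := k • u with hf'
    have hk0 : k ≠ 0 := inv_ne_zero hue
    have hff : herm q f' f' = 0 := by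
      rw [hf', herm_smul_left, herm_smul_right hF, hu, mul_zero, mul_zero]
    have hf'e : herm q f' e = 1 := by rw [hf', herm_smul_left, hk, inv_mul_cancel₀ hue]
    have hef : herm q e f' = 1 := herm_one_swap hF hf'e
    obtain ⟨w', -, hwe, hwf, hww⟩ := exists_orth_norm hF (S := ∅) (u := e) (v := f') (by simp)
      (by simp [supp_empty]) (by simp [supp_empty]) h.ee hff hef (t := (1 : F)) (one_pow q)
    have h' : Frame3 q e f' w' := ⟨h.ee, hff, hef, hww, hwe, hwf⟩
    have hfK : rootGroup hF h'.ff ≤ K := rootGroup_smul_le hF hu huK hk0 hff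
    by_cases hfull : ∀ z : F, z ∈ zset hF K h'
    · apply hH
      haveI := isSimpleGroup_PSU (n := 3) (F := F) hF le_rfl h32
      have hle : Subgroup.normalClosure {piU 3 F q (tv hF hp0.ee hone0)} ≤ H := by
        refine (Subgroup.closure_le _).2 fun y hy => ?_
        obtain ⟨a, ha, hay⟩ := Group.mem_conjugatesOfSet_iff.1 hy
        rw [Set.mem_singleton_iff] at ha
        subst ha
        obtain ⟨g, hg⟩ := isConj_iff.1 hay
        obtain ⟨g, rfl⟩ := piU_surjective g
        rw [← map_inv, ← map_mul, ← map_mul, conj_tv] at hg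
        rw [← hg]
        exact rootGroup_le_of_full hF h' hZ hfK hfull
          ((herm_smul_SU g e0 e0).trans hp0.ee) ((smul_ne_zero_iff_ne g).2 hp0.e_ne)
          ⟨1, hone0, rfl⟩
      have hne : Subgroup.normalClosure {piU 3 F q (tv hF hp0.ee hone0)} ≠ ⊥ := fun e' =>
        ne_one_of_orderOf (orderOf_tv hF hp0.ee hp0.e_ne hone0 one_ne_zero)
          (Subgroup.mem_bot.1 (e' ▸ Subgroup.subset_normalClosure (Set.mem_singleton _)))
      rw [((Subgroup.normalClosure_normal
        (s := {piU 3 F q (tv hF hp0.ee hone0)})).eq_bot_or_eq_top.resolve_left hne), top_le_iff]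
        at hle
      exact hle
    · push Not at hfull
      obtain ⟨x, hx⟩ := hfull
      obtain ⟨r, hr, hr0, hr1⟩ := exists_real hF hq
      obtain ⟨g, hg, hge, -⟩ := exists_torus_mem hF ⟨h.ee, hff, hef⟩ hZ hfK hr hr0
      refine not_binary_translate hF h' hZ hg hge (by rw [mult_real hF hr0 hr]; exact hr1) hx
        (fun X hXe hXz d hd hd2 => ?_) hb
      by_contra hcon
      push Not at hcon
      set v := d • e with hv
      have hvv : herm q v v = 0 := (herm_smul_SU d e e).trans h.ee
      have hve : herm q v e ≠ 0 := fun e' => hcon _ (eq_smul_of_orth hF h' hvv e')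
      set v' := (herm q v e)⁻¹ • v with hv'
      have hv'v' : herm q v' v' = 0 := by
        rw [hv', herm_smul_left, herm_smul_right hF, hvv, mul_zero, mul_zero]
      have hv'e : herm q v' e = 1 := by rw [hv', herm_smul_left, inv_mul_cancel₀ hve]
      have hvK := rootGroup_conj_le hF h.ee hZ hd
      have hv'K : rootGroup hF hv'v' ≤ K :=
        rootGroup_smul_le hF hvv hvK (inv_ne_zero hve) hv'v'
      have hXe' : X • e = e := by rw [hXe, one_smul]
      have hXv : herm q (X⁻¹ • v') e = 1 := by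
        have := herm_smul_SU X (X⁻¹ • v') e
        rw [smul_inv_smul, hXe'] at this
        rw [← this, hv'e]
      have hXvv : herm q (X⁻¹ • v') (X⁻¹ • v') = 0 := (herm_smul_SU _ _ _).trans hv'v'
      have hXvK : rootGroup hF hXvv ≤ K := by
        have hX1 : X⁻¹ • e = e := by rw [inv_smul_eq_iff, hXe']
        have h1 := rootGroup_conj_le hF h.ee hZ hd2
        have he1 : (X⁻¹ * d * X) • e = X⁻¹ • v := by rw [mul_smul, hXe', mul_smul]
        simp only [he1] at h1
        have h2 := rootGroup_smul_le hF ((herm_smul_SU _ _ _).trans hvv) h1 (inv_ne_zero hve)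
          (by rw [← lin]; exact hXvv)
        simpa only [hv', lin] using h2
      have z1 := mem_zset_of_point hF h' hq hZ hfK hv'v' hv'e hv'K
      have z2 := mem_zset_of_point hF h' hq hZ hfK hXvv hXv hXvK
      apply hXz
      obtain ⟨b, ζ, x1, x2, -⟩ := coords_unip hF h' hXe'
      have hζ : tau q f' w' (1 : F) X = ζ := tau_unip hF h' (zb_unip hF h' x1).2
      have hd' := h'.decomp hF (X⁻¹ • v')
      rw [hXv, one_smul] at hd'
      have key : herm q v' w' = ζ + herm q (X⁻¹ • v') w' := by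
        have h3 : v' = X • (X⁻¹ • v') := (smul_inv_smul X v').symm
        rw [hd'] at h3
        simp only [smul_add, lin, hXe', x1, x2] at h3
        have := congrArg (fun y => herm q y w') h3
        simpa [herm_add_left, herm_neg_left, herm_smul_left, h'.ew hF, h'.fw hF, h'.ww] using this
      rw [hζ, show ζ = herm q v' w' - herm q (X⁻¹ • v') w' by linear_combination -key]
      exact sub_mem z1 z2

omit hF in
theorem center_map_conj {G : Type*} [Group G] (P : Subgroup G) (g : G) :
    (Subgroup.center (P.map (MulAut.conj g).toMonoidHom)).map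
        (P.map (MulAut.conj g).toMonoidHom).subtype =
      ((Subgroup.center P).map P.subtype).map (MulAut.conj g).toMonoidHom := by
  have hc : ∀ A : Subgroup G, ∀ x,
      x ∈ (Subgroup.center A).map A.subtype ↔ x ∈ A ∧ ∀ y ∈ A, y * x = x * y := by
    intro A x
    constructor
    · rintro ⟨⟨x, hx⟩, hc, rfl⟩
      exact ⟨hx, fun y hy => congrArg Subtype.val (Subgroup.mem_center_iff.1 hc ⟨y, hy⟩)⟩
    · rintro ⟨hx, h⟩
      exact ⟨⟨x, hx⟩, Subgroup.mem_center_iff.2 fun y => Subtype.ext (h y y.2), rfl⟩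
  ext x
  rw [hc, Subgroup.mem_map_equiv, Subgroup.mem_map_equiv, hc]
  refine and_congr_right fun _ => ⟨fun h y hy => ?_, fun h y hy => ?_⟩
  · have := congrArg (MulAut.conj g).symm (h (MulAut.conj g y) ⟨y, hy, rfl⟩)
    rwa [map_mul, map_mul, MulEquiv.symm_apply_apply] at this
  · obtain ⟨y, hy', rfl⟩ := hy
    have := congrArg (MulAut.conj g) (h y hy')
    rwa [map_mul, map_mul, MulEquiv.apply_symm_apply] at this

/-- The centres of the Sylow 2-subgroups are the root groups. -/
theorem exists_sylow_center {n : ℕ} (hn : 2 ≤ n) (hq : q = 2 ^ n) {u : Fin 3 → F}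
    (hu : herm q u u = 0) (hu0 : u ≠ 0) :
    ∃ P : Sylow 2 (PSU 3 F q),
      Tgrp hF hu = (Subgroup.center (P : Subgroup (PSU 3 F q))).map
        (P : Subgroup (PSU 3 F q)).subtype := by
  classical
  haveI : Fact (Nat.Prime 2) := ⟨Nat.prime_two⟩
  obtain ⟨S, e, f, h, hS, hS2⟩ := AutPSU.exists_frame (q := q) (F := F) hF (le_refl 3)
  obtain ⟨P0, hP0⟩ := (isPGroup_Ugrp hF 2 h).exists_le_sylow
  have heq : Ugrp hF h = P0 := Subgroup.eq_of_le_of_card_ge hP0
    (le_of_eq ((SuzukiTwo.psu_sylow hF hn hq P0).1.trans (SuzukiTwo.card_Ugrp hF h hS hS2).symm))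
  obtain ⟨g0, -, a, ha, hg0⟩ := exists_move_point hF (S := ∅) (u := e) (u' := u)
    (by simp [supp_empty]) (by simp [supp_empty]) h.ee hu h.e_ne hu0
  set g := piU 3 F q g0
  refine ⟨g • P0, ?_⟩
  have hcoe : ((g • P0 : Sylow 2 (PSU 3 F q)) : Subgroup (PSU 3 F q)) =
      (P0 : Subgroup (PSU 3 F q)).map (MulAut.conj g).toMonoidHom := rfl
  rw [hcoe, center_map_conj]
  have hT : Tgrp hF h.ee = (Subgroup.center (P0 : Subgroup (PSU 3 F q))).map
      (P0 : Subgroup (PSU 3 F q)).subtype := by
    rw [← heq]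
    refine le_antisymm (fun x hx => ?_) ?_
    · refine ⟨⟨x, Tgrp_le_Ugrp hF h hx⟩, Subgroup.mem_center_iff.2 fun y => Subtype.ext ?_, rfl⟩
      obtain ⟨c, hc, rfl⟩ := (mem_Tgrp hF).1 hx
      obtain ⟨v, hv, b, hb, hy⟩ := y.2
      show (y : PSU 3 F q) * _ = _ * (y : PSU 3 F q)
      rw [hy, ← map_mul, ← map_mul]
      refine congrArg _ (eq_of_smul_eq_SU fun x => ?_)
      simp only [mul_smul, Qel_smul, tv_smul, herm_add_left, herm_sub_left, herm_smul_left, h.ee,
        hv.1, (hv.left hF).1]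
      module
    · rintro _ ⟨⟨x, hx⟩, hc, rfl⟩
      exact centralizer_Ugrp hF (by norm_num) h fun y hy =>
        (congrArg Subtype.val (Subgroup.mem_center_iff.1 hc ⟨y, hy⟩)).symm
  rw [← hT, map_conj_Tgrp hF g0 h.ee]
  simp only [hg0]
  exact (Tgrp_smul hF hu ha _).symm

/-- The binary actions with point stabilisers of even order. -/
theorem u3_binary_iff {n : ℕ} (hn : 2 ≤ n) (hq : q = 2 ^ n) (hH : H ≠ ⊤)
    (heven : Even (Nat.card H))
    (hone : ∀ s t : PSU 3 F q, orderOf s = 2 → orderOf t = 2 → IsConj s t) :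
    IsBinary H ↔ ∃ P : Sylow 2 (PSU 3 F q),
      H = (Subgroup.center (P : Subgroup (PSU 3 F q))).map (P : Subgroup (PSU 3 F q)).subtype := by
  haveI : Fact (Nat.Prime 2) := ⟨Nat.prime_two⟩
  have hq4 : 4 ≤ q := hq ▸ le_trans (show 4 ≤ 2 ^ 2 by norm_num)
    (Nat.pow_le_pow_right (by norm_num) hn)
  constructor
  · intro hb
    obtain ⟨e, he, he0, rfl⟩ := eq_Tgrp_of_binary hF hq4 hb hH heven hone
    exact exists_sylow_center hF hn hq he he0
  · rintro ⟨P, hP⟩
    obtain ⟨S, e, f, h, -, -⟩ := AutPSU.exists_frame (q := q) (F := F) hF (le_refl 3)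
    obtain ⟨P0, hP0⟩ := exists_sylow_center hF hn hq h.ee h.e_ne
    obtain ⟨g, hg⟩ := MulAction.exists_smul_eq (PSU 3 F q) P0 P
    have hmap : H = (Tgrp hF h.ee).map (MulAut.conj g).toMonoidHom := by
      rw [hP, hP0, ← center_map_conj, ← hg]
      rfl
    rw [hmap]
    exact (binary_Tgrp hF h.ee h.e_ne).map _

end Cfsg.Agent.BinaryOne28
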