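import Cfsg.Prelude.Def_Sz
import Cfsg.Agent.BinaryOne28.U3Main
import Cfsg.Agent.BenderCons37.Discharge
import Cfsg.Agent.MaxSub.BinaryPSL.Main
import Cfsg.Agent.S5737
import Cfsg.Agent.Lib.LinearGroup.PSLTools

/-!
Binary coset actions of the simple groups with one class of involutions (S5735), from Bender's
structure theorem.
-/

set_option autoImplicit false

namespace Cfsg.Agent.BinaryOne28

open Cfsg.Agent.LocalEven64.SzBinary (IsBinary)

universe u

variable {G : Type u} [Group G] [Finite G]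

/-- The right hand side of S5735. -/
def Listed (H : Subgroup G) : Prop :=
  ((∃ (F : Type) (_ : Field F) (_ : Fintype F) (a : ℕ), 2 ≤ a ∧ Fintype.card F = 2 ^ a ∧
      Nonempty (G ≃* Matrix.SpecialLinearGroup (Fin 2) F)) ∧ ∃ P : Sylow 2 G, H = P) ∨
  (Cfsg.Lie.IsoSuzuki G ∧
    ∃ P : Sylow 2 G, H = (Subgroup.center (P : Subgroup G)).map (P : Subgroup G).subtype) ∨
  ((∃ (F : Type) (_ : Field F) (_ : Fintype F) (a : ℕ), 2 ≤ a ∧ Fintype.card F = (2 ^ a) ^ 2 ∧
      Nonempty (G ≃* Cfsg.PSU 3 F (2 ^ a))) ∧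
    ∃ P : Sylow 2 G, H = (Subgroup.center (P : Subgroup G)).map (P : Subgroup G).subtype)

variable {G' : Type*} [Group G'] [Finite G']

omit [Finite G] [Finite G'] in
theorem center_map_equiv (e : G ≃* G') (P : Subgroup G) :
    ((Subgroup.center P).map P.subtype).map e.toMonoidHom =
      (Subgroup.center (P.map e.toMonoidHom)).map (P.map e.toMonoidHom).subtype := by
  ext x
  constructor
  · rintro ⟨_, ⟨y, hy, rfl⟩, rfl⟩
    refine ⟨⟨e y, y, y.2, rfl⟩, Subgroup.mem_center_iff.2 ?_, rfl⟩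
    rintro ⟨_, z, hz, rfl⟩
    refine Subtype.ext ?_
    show e z * e y = e y * e z
    rw [← map_mul, ← map_mul]
    exact congrArg (fun t : P => e (t : G)) (Subgroup.mem_center_iff.1 hy ⟨z, hz⟩)
  · rintro ⟨⟨_, y, hy, rfl⟩, hc, rfl⟩
    refine ⟨y, ⟨⟨y, hy⟩, Subgroup.mem_center_iff.2 fun z => Subtype.ext (e.injective ?_), rfl⟩, rfl⟩
    rw [Subgroup.coe_mul, Subgroup.coe_mul, map_mul, map_mul]
    exact congrArg Subtype.val (Subgroup.mem_center_iff.1 hc ⟨e z, z, z.2, rfl⟩)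

theorem sylow_center_map_iff (e : G ≃* G') (H : Subgroup G) :
    (∃ P : Sylow 2 G, H = (Subgroup.center (P : Subgroup G)).map (P : Subgroup G).subtype) ↔
      ∃ P : Sylow 2 G', H.map e.toMonoidHom =
        (Subgroup.center (P : Subgroup G')).map (P : Subgroup G').subtype := by
  haveI : Fact (Nat.Prime 2) := ⟨Nat.prime_two⟩
  constructor
  · rintro ⟨P, rfl⟩
    exact ⟨P.mapSurjective (f := e.toMonoidHom) e.surjective, center_map_equiv e _⟩
  · rintro ⟨P, hP⟩
    refine ⟨P.mapSurjective (f := e.symm.toMonoidHom) e.symm.surjective, ?_⟩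
    refine Eq.trans ?_ (center_map_equiv e.symm (P : Subgroup G'))
    rw [← hP, Subgroup.map_map, show e.symm.toMonoidHom.comp e.toMonoidHom = MonoidHom.id _ by
      ext; simp, Subgroup.map_id]

theorem sylow_map_iff (e : G ≃* G') (H : Subgroup G) :
    (∃ P : Sylow 2 G, H = P) ↔ ∃ P : Sylow 2 G', H.map e.toMonoidHom = P := by
  haveI : Fact (Nat.Prime 2) := ⟨Nat.prime_two⟩
  constructor
  · rintro ⟨P, rfl⟩
    exact ⟨P.mapSurjective (f := e.toMonoidHom) e.surjective, rfl⟩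
  · rintro ⟨P, hP⟩
    refine ⟨P.mapSurjective (f := e.symm.toMonoidHom) e.symm.surjective, ?_⟩
    show H = (P : Subgroup G').map e.symm.toMonoidHom
    rw [← hP, Subgroup.map_map, show e.symm.toMonoidHom.comp e.toMonoidHom = MonoidHom.id _ by
      ext; simp, Subgroup.map_id]

omit [Finite G] [Finite G'] in
theorem map_ne_top (e : G ≃* G') {H : Subgroup G} (hH : H ≠ ⊤) : H.map e.toMonoidHom ≠ ⊤ :=
  fun h => hH (Subgroup.map_injective (f := e.toMonoidHom) e.injective
    (h.trans (Subgroup.map_top_of_surjective _ e.surjective).symm))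

omit [Finite G] [Finite G'] in
theorem card_map_equiv (e : G ≃* G') (H : Subgroup G) :
    Nat.card (H.map e.toMonoidHom) = Nat.card H :=
  Nat.card_congr (H.equivMapOfInjective e.toMonoidHom e.injective).symm.toEquiv

omit [Finite G] [Finite G'] in
theorem hone_map (e : G ≃* G') (hone : ∀ s t : G, orderOf s = 2 → orderOf t = 2 → IsConj s t)
    (s t : G') (hs : orderOf s = 2) (ht : orderOf t = 2) : IsConj s t := by
  have h := hone (e.symm s) (e.symm t) (by rw [e.symm.orderOf_eq, hs])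
    (by rw [e.symm.orderOf_eq, ht])
  obtain ⟨c, hc⟩ := isConj_iff.1 h
  exact isConj_iff.2 ⟨e c, e.symm.injective (by simpa using hc)⟩

theorem psl_iff {F : Type*} [Field F] [Fintype F] {a : ℕ} (ha : 2 ≤ a) (hF : Fintype.card F = 2 ^ a)
    (e : G ≃* Matrix.ProjectiveSpecialLinearGroup (Fin 2) F) {H : Subgroup G} (hH : H ≠ ⊤)
    (heven : Even (Nat.card H)) : IsBinary H ↔ ∃ P : Sylow 2 G, H = P := by
  have h4 : 4 ≤ Fintype.card F :=
    hF ▸ le_trans (show 4 ≤ 2 ^ 2 by norm_num) (Nat.pow_le_pow_right (by norm_num) ha)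
  have h5 : Fintype.card F ≠ 5 := fun h => by
    have : Even (5 : ℕ) := h ▸ hF ▸ Nat.even_pow.2 ⟨even_two, by omega⟩
    exact absurd this (by decide)
  refine ((LocalEven64.SzBinary.isBinary_map_iff e).symm.trans
    (MaxSub.BinaryPSL.iff_binary h4 h5 _ (map_ne_top e hH))).trans ?_
  rw [sylow_map_iff e]
  refine ⟨?_, fun h => Or.inr (Or.inl ⟨⟨a, hF⟩, h⟩)⟩
  rintro (h | ⟨-, h⟩ | ⟨-, h⟩)
  · exfalso
    have := card_map_equiv e H
    rw [h, Subgroup.card_bot] at this
    rw [← this] at heven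
    exact absurd heven (by decide)
  · exact h
  · exfalso
    rw [card_map_equiv e H] at h
    rw [h] at heven
    exact absurd heven (by decide)

theorem sz_iff (hG : Cfsg.Lie.IsoSuzuki G) {H : Subgroup G} (hH : H ≠ ⊤)
    (heven : Even (Nat.card H)) : IsBinary H ↔
      ∃ P : Sylow 2 G, H = (Subgroup.center (P : Subgroup G)).map (P : Subgroup G).subtype := by
  obtain ⟨F, iF, iT, m, hm, hF, ⟨e⟩⟩ := hG
  refine ((LocalEven64.SzBinary.isBinary_map_iff e).symm.trans
    (S5737.result m hm hF _ (map_ne_top e hH))).trans ?_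
  rw [sylow_center_map_iff e]
  refine ⟨fun h => h.resolve_left fun h0 => ?_, Or.inr⟩
  have := card_map_equiv e H
  rw [h0, Subgroup.card_bot] at this
  rw [← this] at heven
  exact absurd heven (by decide)

theorem psu_iff {F : Type} [Field F] [Fintype F] {n : ℕ} (hn : 2 ≤ n)
    (hF : Fintype.card F = (2 ^ n) ^ 2) (e : G ≃* Cfsg.PSU 3 F (2 ^ n))
    (hone : ∀ s t : G, orderOf s = 2 → orderOf t = 2 → IsConj s t) {H : Subgroup G} (hH : H ≠ ⊤)
    (heven : Even (Nat.card H)) : IsBinary H ↔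
      ∃ P : Sylow 2 G, H = (Subgroup.center (P : Subgroup G)).map (P : Subgroup G).subtype := by
  haveI : CharP F 2 := charP_of_card_eq_prime_pow (f := n * 2) (by rw [hF, ← pow_mul])
  rw [sylow_center_map_iff e]
  exact (LocalEven64.SzBinary.isBinary_map_iff e).symm.trans
    (u3_binary_iff hF hn rfl (map_ne_top e hH) (by rwa [card_map_equiv]) (hone_map e hone))

theorem slPSL {F : Type} [Field F] [Fintype F] {a : ℕ} (ha : 2 ≤ a)
    (hF : Fintype.card F = 2 ^ a) : Nat.gcd (Fintype.card (Fin 2)) (Nat.card F - 1) = 1 := by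
  rw [Fintype.card_fin, Nat.card_eq_fintype_card, hF]
  refine Nat.Coprime.gcd_eq_one (Nat.coprime_two_left.2
    (Nat.Even.sub_odd Nat.one_le_two_pow ?_ odd_one))
  exact even_iff_two_dvd.2 (dvd_pow_self 2 (by omega))

/-- The converse direction, which needs no classification. -/
theorem binary_of_listed (hone : ∀ s t : G, orderOf s = 2 → orderOf t = 2 → IsConj s t)
    {H : Subgroup G} (hH : H ≠ ⊤) (heven : Even (Nat.card H)) (h : Listed H) : IsBinary H := by
  rcases h with ⟨⟨F, _, _, a, ha, hF, ⟨e⟩⟩, hP⟩ | ⟨hsz, hP⟩ | ⟨⟨F, _, _, n, hn, hF, ⟨e⟩⟩, hP⟩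
  · exact (psl_iff ha hF (e.trans (LinearGroup.slEquivPSL (slPSL ha hF))) hH heven).2 hP
  · exact (sz_iff hsz hH heven).2 hP
  · exact (psu_iff hn hF e hone hH heven).2 hP

/-- The form of S5735, from Bender's structure theorem. -/
theorem binary_iff_listed (hsp : BenderCons37.BenderSplit.{u}) [IsSimpleGroup G]
    (hone : ∀ s t : G, orderOf s = 2 → orderOf t = 2 → IsConj s t) {H : Subgroup G} (hH : H ≠ ⊤)
    (heven : Even (Nat.card H)) : IsBinary H ↔ Listed H := by
  refine ⟨fun hb => ?_, binary_of_listed hone hH heven⟩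
  obtain ⟨M, hM⟩ := exists_stronglyEmbedded hb hone hH heven
  rcases BenderCons37.isR1Type_of_simple_se hsp Suz27.shapeStmt Suz27.uniqStmt hM with
    ⟨F, iF, iT, ⟨a, ha, hF⟩, ⟨e⟩⟩ | hsz | ⟨F, iF, iT, n, hn, hF, ⟨e⟩⟩
  · exact Or.inl ⟨⟨F, iF, iT, a, ha, hF, ⟨e.trans (LinearGroup.slEquivPSL (slPSL ha hF)).symm⟩⟩,
      (psl_iff ha hF e hH heven).1 hb⟩
  · exact Or.inr (Or.inl ⟨hsz, (sz_iff hsz hH heven).1 hb⟩)
  · exact Or.inr (Or.inr ⟨⟨F, iF, iT, n, hn, hF, ⟨e⟩⟩, (psu_iff hn hF e hone hH heven).1 hb⟩)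

end Cfsg.Agent.BinaryOne28
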