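import Cfsg.Agent.MinIndexU3.Point
import Cfsg.Agent.AutPSU.Radical
import Cfsg.Agent.LocalEven64.SzBinary.Generic

/-!
The stabiliser of an isotropic point of the three-dimensional unitary space as a group of affine
maps, and the criterion for non-binary coset actions lifted to `SU₃(q)`.
-/

set_option autoImplicit false

namespace Cfsg.Agent.BinaryOne28

open Matrix Cfsg.Agent.Unitary Cfsg.Agent.AutPSU Cfsg.Agent.MinIndexU3
open Cfsg.Agent.LocalEven64.SzBinary (IsBinary)

variable {F : Type*} [Field F] [Fintype F] {q : ℕ}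

/-- The translation part of an element fixing the point of `e` with eigenvalue `a`. -/
def tau (q : ℕ) (f w : Fin 3 → F) (a : F) (g : SU 3 F q) : F := a ^ q * herm q (g • f) w

/-- The multiplier of an element with eigenvalue `a`. -/
def mult (q : ℕ) (a : F) : F := a ^ q * a ^ (q - 1)

omit [Fintype F] in
theorem mult_mul (a a' : F) : mult q (a * a') = mult q a * mult q a' := by
  simp only [mult, mul_pow]; ring

omit [Fintype F] in
theorem mult_one : mult q (1 : F) = 1 := by simp [mult]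

omit [Fintype F] in
theorem mult_inv (a : F) : mult q a⁻¹ = (mult q a)⁻¹ := by
  simp only [mult, inv_pow, mul_inv]

omit [Fintype F] in
theorem mult_ne_zero {a : F} (ha : a ≠ 0) : mult q a ≠ 0 :=
  mul_ne_zero (pow_ne_zero _ ha) (pow_ne_zero _ ha)

variable (hF : Fintype.card F = q ^ 2)

include hF in
theorem mult_real {r : F} (hr0 : r ≠ 0) (hr : r ^ q = r) : mult q r = r := by
  rw [mult, pow_q_sub_one hF hr0, hr, div_self hr0, mul_one]

include hF in
theorem mult_eq {a : F} (ha : a ≠ 0) : mult q a = (a ^ q) ^ 2 / a := by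
  rw [mult, pow_q_sub_one hF ha]; ring

variable {e f w : Fin 3 → F} (h : Frame3 q e f w)
include hF h

omit hF h in
theorem eigen_mul {g g' : SU 3 F q} {a a' : F} (hg : g • e = a • e) (hg' : g' • e = a' • e) :
    (g * g') • e = (a * a') • e := by
  rw [mul_smul, hg', smul_comm g, hg, smul_smul, mul_comm]

theorem eigen_ne_zero {g : SU 3 F q} {a : F} (hg : g • e = a • e) : a ≠ 0 := fun ha =>
  h.e_ne hF ((smul_eq_zero_iff_eq g).1 (by rw [hg, ha, zero_smul]))

theorem eigen_inv {g : SU 3 F q} {a : F} (hg : g • e = a • e) : g⁻¹ • e = a⁻¹ • e := by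
  rw [inv_smul_eq_iff, smul_comm g, hg, inv_smul_smul₀ (eigen_ne_zero hF h hg)]

theorem eigen_unique {g : SU 3 F q} {a a' : F} (hg : g • e = a • e) (hg' : g • e = a' • e) :
    a = a' :=
  smul_left_injective F (h.e_ne hF) (hg.symm.trans hg')

theorem herm_w_e (x : Fin 3 → F) (a b c : F) (hx : x = a • e + b • f + c • w) : herm q x w = c := by
  simp [hx, herm_add_left, herm_smul_left, h.ew hF, h.fw hF, h.ww]

theorem tau_mul {g g' : SU 3 F q} {a a' : F} (hg : g • e = a • e) (hg' : g' • e = a' • e) :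
    tau q f w (a * a') (g * g') = tau q f w a g + mult q a * tau q f w a' g' := by
  obtain ⟨b, z, ha, g1, g2, -⟩ := h.exists_coords hF hg
  obtain ⟨b', z', ha', g1', -, -⟩ := h.exists_coords hF hg'
  have e1 : herm q (g • f) w = z := herm_w_e hF h _ _ _ _ g1
  have e2 : herm q (g' • f) w = z' := herm_w_e hF h _ _ _ _ g1'
  have e3 : herm q ((g * g') • f) w = (a' ^ q)⁻¹ * z + z' * a ^ (q - 1) := by
    refine herm_w_e hF h _ (b' * a + (a' ^ q)⁻¹ * b + z' * -(a ^ q * z ^ q))
      ((a' ^ q)⁻¹ * (a ^ q)⁻¹) _ ?_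
    rw [mul_smul, g1', smul_add, smul_add, smul_comm g b', hg, smul_comm g (a' ^ q)⁻¹, g1,
      smul_comm g z', g2]
    module
  have : a' ^ q ≠ 0 := pow_ne_zero _ ha'
  simp only [tau, mult, e1, e2, e3, mul_pow]
  field_simp

theorem tau_one : tau q f w (1 : F) (1 : SU 3 F q) = 0 := by
  rw [tau, one_smul, h.fw hF, mul_zero]

theorem tau_inv {g : SU 3 F q} {a : F} (hg : g • e = a • e) :
    tau q f w a⁻¹ g⁻¹ = -(mult q a⁻¹ * tau q f w a g) := by
  have h1 := tau_mul hF h (eigen_inv hF h hg) hg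
  rw [inv_mul_cancel₀ (eigen_ne_zero hF h hg), inv_mul_cancel, tau_one hF h] at h1
  linear_combination -h1

theorem tau_conj {g u : SU 3 F q} {a c : F} (hg : g • e = a • e) (hu : u • e = c • e) :
    (g⁻¹ * u * g) • e = c • e ∧
      tau q f w c (g⁻¹ * u * g) =
        mult q a⁻¹ * (tau q f w c u + (mult q c - 1) * tau q f w a g) := by
  have ha := eigen_ne_zero hF h hg
  have hgi := eigen_inv hF h hg
  have hgu := eigen_mul hgi hu
  refine ⟨?_, ?_⟩
  · rw [eigen_mul hgu hg]; congr 1; field_simp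
  · have e1 := tau_mul hF h hgu hg
    rw [tau_mul hF h hgi hu, tau_inv hF h hg, mult_mul] at e1
    rw [show a⁻¹ * c * a = c by field_simp] at e1
    rw [e1]; ring

theorem tau_conj' {g u : SU 3 F q} {a c : F} (hg : g • e = a • e) (hu : u • e = c • e) :
    (g * u * g⁻¹) • e = c • e ∧
      tau q f w c (g * u * g⁻¹) =
        mult q a * tau q f w c u + (1 - mult q c) * tau q f w a g := by
  have ha := eigen_ne_zero hF h hg
  have hgi := eigen_inv hF h hg
  have hgu := eigen_mul hg hu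
  refine ⟨?_, ?_⟩
  · rw [eigen_mul hgu hgi]; congr 1; field_simp
  · have e1 := tau_mul hF h hgu hgi
    rw [tau_mul hF h hg hu, tau_inv hF h hg, mult_mul, mult_inv] at e1
    rw [show a * c * a⁻¹ = c by field_simp] at e1
    rw [e1]
    field_simp [mult_ne_zero ha]
    ring

theorem tau_unip {u : SU 3 F q} {z : F} (hz : herm q (u • f) w = z) : tau q f w (1 : F) u = z := by
  rw [tau, one_pow, one_mul, hz]

theorem exists_unip {z b : F} (hb : b + b ^ q + z * z ^ q = 0) :
    ∃ g : SU 3 F q, g • e = e ∧ g • f = b • e + f + z • w ∧ g • w = (-(z ^ q)) • e + w := by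
  have hwe : herm q (z • w) e = 0 := by rw [herm_smul_left, h.we, mul_zero]
  have hcond : b + b ^ q = -herm q (z • w) (z • w) := by
    rw [herm_smul_left, herm_smul_right hF, h.ww]
    linear_combination hb
  refine ⟨Qel hF h.ee hwe hcond, ?_, ?_, ?_⟩
  · rw [Qel_smul, h.ee, herm_smul_right hF, h.ew hF]
    simp
  · rw [Qel_smul, h.fe hF, herm_smul_right hF, h.fw hF]
    module
  · rw [Qel_smul, h.we, herm_smul_right hF, h.ww]
    module

theorem exists_unip_z (z : F) :
    ∃ g : SU 3 F q, g • e = (1 : F) • e ∧ tau q f w (1 : F) g = z := by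
  obtain ⟨b, hb⟩ := exists_trace_eq hF (t := -(z * z ^ q))
    (by rw [neg_pow_q hF, mul_pow, pow_q_pow_q hF, mul_comm])
  obtain ⟨g, h1, h2, -⟩ := exists_unip hF h (z := z) (b := b) (by linear_combination hb)
  exact ⟨g, by rw [one_smul, h1], tau_unip hF h (zb_unip hF h h2).2⟩

/-- The torus. -/
theorem exists_diag {a : F} (ha : a ≠ 0) : ∃ g : SU 3 F q,
    g • e = a • e ∧ g • f = (a ^ q)⁻¹ • f ∧ g • w = a ^ (q - 1) • w := by
  classical
  have haq : a ^ q ≠ 0 := pow_ne_zero _ ha
  let v : Fin 3 → F := ![a, (a ^ q)⁻¹, a ^ (q - 1)]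
  let P : Matrix (Fin 3) (Fin 3) F := Matrix.of fun i j => ![e, f, w] j i
  have hP : IsUnit P.det := by
    rw [isUnit_iff_ne_zero]
    intro h0
    obtain ⟨x, hx0, hx⟩ := Matrix.exists_mulVec_eq_zero_iff.2 h0
    apply hx0
    have hli : LinearIndependent F ![e, f, w] :=
      linearIndependent_of_top_le_span_of_card_eq_finrank (h.span_top hF).ge (by simp)
    funext i
    refine Fintype.linearIndependent_iff.1 hli x ?_ i
    funext k
    have := congrFun hx k
    simp only [P, Matrix.mulVec, dotProduct, Matrix.of_apply, Pi.zero_apply] at this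
    simp only [Finset.sum_apply, Pi.smul_apply, smul_eq_mul, Pi.zero_apply]
    rw [← this]
    exact Finset.sum_congr rfl fun j _ => mul_comm _ _
  let M : Matrix (Fin 3) (Fin 3) F := P * Matrix.diagonal v * P⁻¹
  have hdet : M.det = 1 := by
    rw [Matrix.det_mul, Matrix.det_mul, mul_right_comm, ← Matrix.det_mul,
      Matrix.mul_nonsing_inv _ hP, Matrix.det_one, one_mul, Matrix.det_diagonal]
    simp only [Fin.prod_univ_three, v, Matrix.cons_val_zero, Matrix.cons_val_one,
      Matrix.cons_val_two, Matrix.tail_cons, Matrix.head_cons]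
    rw [pow_q_sub_one hF ha]
    field_simp
  have hcol : ∀ j, M *ᵥ (![e, f, w] j) = v j • ![e, f, w] j := by
    intro j
    have hPj : (![e, f, w] j : Fin 3 → F) = P *ᵥ Pi.single j 1 := by
      rw [Matrix.mulVec_single_one]; rfl
    rw [hPj, Matrix.mulVec_mulVec, show M * P = P * Matrix.diagonal v by
      rw [Matrix.mul_assoc, Matrix.nonsing_inv_mul _ hP, Matrix.mul_one], ← Matrix.mulVec_mulVec,
      Matrix.diagonal_mulVec_single, mul_one, ← Matrix.mulVec_smul]
    congr 1
    funext i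
    simp [Pi.single_apply]
  have he : M *ᵥ e = a • e := hcol 0
  have hf : M *ᵥ f = (a ^ q)⁻¹ • f := hcol 1
  have hw : M *ᵥ w = a ^ (q - 1) • w := hcol 2
  have hall : ∀ x : Fin 3 → F, M *ᵥ x =
      (herm q x f * a) • e + (herm q x e * (a ^ q)⁻¹) • f + (herm q x w * a ^ (q - 1)) • w := by
    intro x
    conv_lhs => rw [h.decomp hF x]
    rw [Matrix.mulVec_add, Matrix.mulVec_add, Matrix.mulVec_smul, Matrix.mulVec_smul,
      Matrix.mulVec_smul, he, hf, hw, smul_smul, smul_smul, smul_smul]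
  have hform : ∀ x y, herm q (M *ᵥ x) (M *ᵥ y) = herm q x y := by
    intro x y
    rw [hall, hall, h.herm_comb hF]
    conv_rhs => rw [h.decomp hF x, h.decomp hF y, h.herm_comb hF]
    have k1 : a * ((a ^ q)⁻¹) ^ q = 1 := by
      rw [inv_pow, pow_q_pow_q hF, mul_inv_cancel₀ ha]
    have k2 : (a ^ q)⁻¹ * a ^ q = 1 := inv_mul_cancel₀ haq
    have hN : a ^ (q - 1) * (a ^ (q - 1)) ^ q = 1 := by
      rw [pow_q_sub_one hF ha, div_pow, pow_q_pow_q hF]
      field_simp
    rw [mul_pow, mul_pow, mul_pow]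
    linear_combination (herm q x f * herm q y e ^ q) * k1 + (herm q x e * herm q y f ^ q) * k2
      + (herm q x w * herm q y w ^ q) * hN
  exact ⟨⟨⟨M, hdet⟩, hform⟩, he, hf, hw⟩

/-- An isotropic vector orthogonal to `e` is a multiple of `e`. -/
theorem eq_smul_of_orth {v : Fin 3 → F} (hv : herm q v v = 0) (hve : herm q v e = 0) :
    v = herm q v f • e := by
  have hd := h.decomp hF v
  rw [hve, zero_smul, add_zero] at hd
  rw [hd, show herm q v f • e + herm q v w • w
      = herm q v f • e + (0 : F) • f + herm q v w • w by simp, h.herm_comb hF] at hv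
  have h0 : herm q v w = 0 := by
    simp only [zero_pow_q hF, mul_zero, zero_mul, zero_add] at hv
    rcases mul_eq_zero.1 hv with h0 | h0
    · exact h0
    · exact (pow_q_eq_zero_iff hF).1 h0
  rwa [h0, zero_smul, add_zero] at hd

/-- The element exchanging `e` and `f`, in characteristic two. -/
theorem exists_flip [CharP F 2] :
    ∃ g : SU 3 F q, g • e = f ∧ g • f = e ∧ g • w = w := by
  have huu : herm q (e + f) (e + f) = 0 := by
    rw [herm_add_left, herm_add_right hF, herm_add_right hF, h.ee, h.ff, h.ef, h.fe hF]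
    simpa using CharTwo.add_self_eq_zero (1 : F)
  have h1c : (1 : F) + 1 ^ q = 0 := by rw [one_pow]; exact CharTwo.add_self_eq_zero 1
  have h2 : (2 : F) = 0 := CharTwo.two_eq_zero
  refine ⟨tv hF huu h1c, ?_, ?_, ?_⟩
  · rw [tv_smul, herm_add_right hF, h.ee, h.ef, zero_add, one_mul, one_smul, ← add_assoc,
      ← two_smul F e, h2, zero_smul, zero_add]
  · rw [tv_smul, herm_add_right hF, h.fe hF, h.ff, add_zero, one_mul, one_smul, add_left_comm,
      ← two_smul F f, h2, zero_smul, add_zero]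
  · rw [tv_smul, herm_add_right hF, h.we, h.wf, add_zero, mul_zero, zero_smul, add_zero]

omit hF h in
/-- The criterion for non-binary actions, lifted. -/
theorem not_binary_lift {H : Subgroup (PSU 3 F q)} {g₁ g₂ g₃ s t : SU 3 F q}
    (h1 : g₁⁻¹ * s * g₁ ∈ H.comap (piU 3 F q)) (h2 : g₂⁻¹ * t * g₂ ∈ H.comap (piU 3 F q))
    (h3 : g₃⁻¹ * (s⁻¹ * t) * g₃ ∈ H.comap (piU 3 F q))
    (h4 : ∀ d, g₁⁻¹ * d * g₁ ∈ H.comap (piU 3 F q) → g₂⁻¹ * d * g₂ ∈ H.comap (piU 3 F q) →
      g₃⁻¹ * (d⁻¹ * s) * g₃ ∉ H.comap (piU 3 F q)) : ¬ IsBinary H := by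
  simp only [Subgroup.mem_comap, map_mul, map_inv] at h1 h2 h3 h4
  refine LocalEven64.SzBinary.not_binary_of_triple h1 h2 h3 fun d => ?_
  obtain ⟨d, rfl⟩ := piU_surjective d
  exact h4 d

section Translations

variable (K : Subgroup (SU 3 F q))

theorem mem_zset_iff {z : F} : z ∈ zset hF K h ↔
    ∃ g ∈ K, g • e = (1 : F) • e ∧ tau q f w (1 : F) g = z := by
  simp only [one_smul, tau, one_pow, one_mul]
  exact Iff.rfl

theorem sub_mem_zset {g g' : SU 3 F q} {a : F} (hg : g ∈ K) (hg' : g' ∈ K) (he : g • e = a • e)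
    (he' : g' • e = a • e) : tau q f w a g - tau q f w a g' ∈ zset hF K h := by
  have ha := eigen_ne_zero hF h he
  have hu : (g * g'⁻¹) • e = (1 : F) • e := by
    rw [eigen_mul he (eigen_inv hF h he'), mul_inv_cancel₀ ha]
  refine (mem_zset_iff hF h K).2 ⟨g * g'⁻¹, mul_mem hg (inv_mem hg'), hu, ?_⟩
  have h1 := tau_mul hF h hu he'
  rw [one_mul, inv_mul_cancel_right, mult_one] at h1
  linear_combination -h1

theorem mult_mul_mem {g : SU 3 F q} {a z : F} (hg : g ∈ K) (he : g • e = a • e)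
    (hz : z ∈ zset hF K h) : mult q a * z ∈ zset hF K h := by
  obtain ⟨u, hu, hue, rfl⟩ := (mem_zset_iff hF h K).1 hz
  obtain ⟨h1, h2⟩ := tau_conj' hF h he hue
  refine (mem_zset_iff hF h K).2 ⟨g * u * g⁻¹, mul_mem (mul_mem hg hu) (inv_mem hg), h1, ?_⟩
  rw [h2, mult_one]; ring

theorem mem_zset_of_mult_sub_mem {g : SU 3 F q} {a x : F} (hg : g ∈ K) (he : g • e = a • e)
    (hm : mult q a ≠ 1) (hx : (mult q a - 1) * x ∈ zset hF K h) : x ∈ zset hF K h := by
  let φ : zset hF K h → zset hF K h := fun z => ⟨(mult q a - 1) * z.1, by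
    rw [sub_mul, one_mul]; exact sub_mem (mult_mul_mem hF h K hg he z.2) z.2⟩
  have hφ : Function.Injective φ := fun z z' e' =>
    Subtype.ext (mul_left_cancel₀ (sub_ne_zero.2 hm) (congrArg Subtype.val e'))
  obtain ⟨z, hz⟩ := (Finite.injective_iff_surjective.1 hφ) ⟨_, hx⟩
  exact mul_left_cancel₀ (sub_ne_zero.2 hm) (congrArg Subtype.val hz) ▸ z.2

theorem mem_of_tau_sub {g g' : SU 3 F q} {a : F} (hZ : rootGroup hF h.ee ≤ K) (hg' : g' ∈ K)
    (he : g • e = a • e) (he' : g' • e = a • e)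
    (hd : tau q f w a g - tau q f w a g' ∈ zset hF K h) : g ∈ K := by
  have ha := eigen_ne_zero hF h he
  have hu : (g * g'⁻¹) • e = (1 : F) • e := by
    rw [eigen_mul he (eigen_inv hF h he'), mul_inv_cancel₀ ha]
  have h1 := tau_mul hF h hu he'
  rw [one_mul, inv_mul_cancel_right, mult_one] at h1
  obtain ⟨k, hk, hke, hkt⟩ := (mem_zset_iff hF h K).1 hd
  -- `g g'⁻¹ k⁻¹` is a transvection
  set v := g * g'⁻¹ * k⁻¹ with hv
  have hve : v • e = (1 : F) • e := by
    rw [hv, eigen_mul hu (eigen_inv hF h hke), inv_one, mul_one]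
  have hvt : tau q f w (1 : F) v = 0 := by
    have h2 := tau_mul hF h hu (eigen_inv hF h hke)
    rw [inv_one, one_mul, mult_one] at h2
    have h3 := tau_inv hF h hke
    rw [inv_one, mult_one] at h3
    rw [hv, h2, h3, hkt]
    linear_combination -h1
  obtain ⟨b, z, v1, v2, v3⟩ := coords_unip hF h (by rw [hve, one_smul])
  have hz : z = 0 := by
    rw [← hvt, tau, one_pow, one_mul, (zb_unip hF h v1).2]
  subst hz
  rw [zero_pow_q hF, neg_zero, zero_smul, zero_add] at v2
  rw [zero_smul, add_zero] at v1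
  rw [zero_mul, add_zero] at v3
  have : v = tv hF h.ee v3 := h.ext hF
    (by rw [hve, one_smul, tv_smul, h.ee]; simp)
    (by rw [v1, tv_smul, h.fe hF, mul_one, add_comm])
    (by rw [v2, tv_smul, h.we]; simp)
  have hvK : v ∈ K := this ▸ hZ ⟨b, v3, rfl⟩
  have : g = v * k * g' := by rw [hv]; group
  rw [this]
  exact mul_mem (mul_mem hvK hk) hg'

end Translations

end Cfsg.Agent.BinaryOne28
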