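import Cfsg.Agent.BinaryOne28.U3Basic

/-!
Three ways in which the action of `PSU₃(2ⁿ)` on the cosets of a subgroup containing a root group
fails to be binary.
-/

set_option autoImplicit false

namespace Cfsg.Agent.BinaryOne28

open Matrix Cfsg.Agent.Unitary Cfsg.Agent.AutPSU Cfsg.Agent.MinIndexU3
open Cfsg.Agent.LocalEven64.SzBinary (IsBinary)

variable {F : Type*} [Field F] [Fintype F] [CharP F 2] {q : ℕ} (hF : Fintype.card F = q ^ 2)
variable {e f w : Fin 3 → F} (h : Frame3 q e f w) {H : Subgroup (PSU 3 F q)}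

local notation "K" => H.comap (piU 3 F q)

omit [Fintype F] [CharP F 2] in
theorem lin (g : SU 3 F q) (c : F) (x : Fin 3 → F) : g • (c • x) = c • (g • x) := smul_comm g c x

include hF h

/-- A non-trivial multiplier and translations outside the translation part. -/
theorem not_binary_translate (hZ : rootGroup hF h.ee ≤ K) {g0 : SU 3 F q} {a : F} (hg0 : g0 ∈ K)
    (he0 : g0 • e = a • e) (hm : mult q a ≠ 1) {x : F} (hx : x ∉ zset hF K h)
    (hinter : ∀ X : SU 3 F q, X • e = (1 : F) • e → tau q f w (1 : F) X ∉ zset hF K h →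
      ∀ d ∈ K, X⁻¹ * d * X ∈ K → ∃ c : F, d • e = c • e) : ¬ IsBinary H := by
  have ha := eigen_ne_zero hF h he0
  have hm0 : mult q a ≠ 0 := mult_ne_zero ha
  set y := (mult q a)⁻¹ * (1 + mult q a) * x with hy
  have hyx : y ∉ zset hF K h := by
    intro hyz
    apply hx
    refine mem_zset_of_mult_sub_mem hF h K hg0 he0 hm ?_
    have := mult_mul_mem hF h K hg0 he0 hyz
    rwa [hy, ← mul_assoc, ← mul_assoc, mul_inv_cancel₀ hm0, one_mul, add_comm,
      ← CharTwo.sub_eq_add] at this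
  obtain ⟨X, hXe, hXt⟩ := exists_unip_z hF h x
  obtain ⟨Y, hYe, hYt⟩ := exists_unip_z hF h y
  set t0 := tau q f w a g0 with ht0
  set t := X * (g0 * g0) * X⁻¹ with ht
  obtain ⟨hte, htt⟩ := tau_conj' hF h hXe (eigen_mul he0 he0)
  have htt' : tau q f w (a * a) t = (1 + mult q a) * t0 + (1 - mult q a * mult q a) * x := by
    rw [ht, htt, tau_mul hF h he0 he0, mult_one, hXt, mult_mul]; ring
  have hsi := eigen_inv hF h he0
  have hue : (g0⁻¹ * t) • e = a • e := by
    rw [eigen_mul hsi hte]; congr 1; field_simp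
  have hut : tau q f w a (g0⁻¹ * t) = t0 + (1 - mult q a) * y := by
    have h1 := tau_mul hF h hsi hte
    rw [show a⁻¹ * (a * a) = a by field_simp, tau_inv hF h he0, htt', mult_inv] at h1
    rw [h1, hy, ← ht0]
    field_simp
    ring
  refine not_binary_lift (g₁ := 1) (g₂ := X) (g₃ := Y) (s := g0) (t := t)
    (by simpa using hg0) ?_ ?_ ?_
  · rw [ht, show X⁻¹ * (X * (g0 * g0) * X⁻¹) * X = g0 * g0 by group]
    exact mul_mem hg0 hg0
  · obtain ⟨h1, h2⟩ := tau_conj hF h hYe hue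
    refine mem_of_tau_sub hF h K hZ hg0 h1 he0 ?_
    rw [h2, inv_one, mult_one, hut, hYt, ← ht0]
    convert zero_mem (zset hF K h) using 1
    ring
  · intro d hd1 hd2 hd3
    have hd : d ∈ K := by simpa using hd1
    obtain ⟨c, hdc⟩ := hinter X hXe (hXt ▸ hx) d hd hd2
    obtain ⟨h1, h2⟩ := tau_conj hF h hXe hdc
    have hmc : mult q c = 1 := by
      by_contra hne
      refine hx (mem_zset_of_mult_sub_mem hF h K hd hdc hne ?_)
      have h3 := sub_mem_zset hF h K hd2 hd h1 hdc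
      rw [h2, inv_one, mult_one, hXt, one_mul, add_sub_cancel_left] at h3
      exact h3
    have hds : (d⁻¹ * g0) • e = (c⁻¹ * a) • e := eigen_mul (eigen_inv hF h hdc) he0
    obtain ⟨h4, h5⟩ := tau_conj hF h hYe hds
    refine hyx (mem_zset_of_mult_sub_mem hF h K hg0 he0 hm ?_)
    have h6 := sub_mem_zset hF h K hd3 (mul_mem (inv_mem hd) hg0) h4 hds
    rw [h5, inv_one, mult_one, hYt, one_mul, add_sub_cancel_left, mult_mul, mult_inv, hmc, inv_one,
      one_mul] at h6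
    exact h6

/-- All translations, and an eigenvalue outside the real field. -/
theorem not_binary_vector (hZ : rootGroup hF h.ee ≤ K)
    (hstab : ∀ g ∈ K, ∃ c : F, g • e = c • e) (hfull : ∀ z : F, z ∈ zset hF K h)
    {g0 : SU 3 F q} {ε : F} (hg0 : g0 ∈ K) (he0 : g0 • e = ε • e) (hε : ε ^ q ≠ ε) :
    ¬ IsBinary H := by
  have hε0 := eigen_ne_zero hF h he0
  have h2 : (2 : F) = 0 := CharTwo.two_eq_zero
  obtain ⟨ν, hν⟩ := exists_norm_eq hF (t := ε + ε ^ q) (by rw [add_pow_q hF, pow_q_pow_q hF, add_comm])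
  have hν0 : ν ≠ 0 := by
    rintro rfl
    rw [zero_pow (by omega)] at hν
    exact hε (CharTwo.add_eq_zero.1 hν.symm).symm
  rw [pow_succ'] at hν
  have hεq : ε ^ q ≠ 0 := pow_ne_zero _ hε0
  obtain ⟨S, hSe, hSf, hSw⟩ := exists_unip hF h (z := ν) (b := ε + 1) (by
    rw [add_pow_q hF, one_pow]; linear_combination hν + (ε + ε ^ q + 1) * h2)
  obtain ⟨u, hue, huf, huw⟩ := exists_unip hF h (z := ν / ε) (b := ε⁻¹ + 1) (by
    rw [add_pow_q hF, one_pow, inv_pow, div_pow]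
    field_simp
    linear_combination hν + (ε + ε ^ q + ε * ε ^ q) * h2)
  obtain ⟨U, hUe, hUf, -⟩ := exists_unip hF h (z := 0) (b := 1) (by
    rw [one_pow, zero_mul, add_zero]; linear_combination h2)
  obtain ⟨W, hWe, hWf, hWw⟩ := exists_flip hF h
  have hWe' : W⁻¹ • e = f := by rw [inv_smul_eq_iff, hWf]
  have hWf' : W⁻¹ • f = e := by rw [inv_smul_eq_iff, hWe]
  have hSv : S • (e + f) = ε • e + f + ν • w := by
    rw [smul_add, hSe, hSf]
    match_scalars <;> first | linear_combination h2 | ring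
  have hTv : (W * u * W⁻¹) • (e + f) = ε⁻¹ • (S • (e + f)) := by
    rw [hSv, mul_smul, smul_add W⁻¹, hWe', hWf', mul_smul, smul_add u, hue, huf, add_comm]
    simp only [smul_add, smul_comm W, hWe, hWf, hWw, smul_smul]
    match_scalars <;> field_simp <;> linear_combination ε * h2
  have hXe : (W * U * W⁻¹) • e = e + f := by
    rw [mul_smul, hWe', mul_smul, hUf]
    simp only [smul_add, smul_comm W, hWe, hWf, one_smul, zero_smul, smul_zero, add_zero]
    abel
  refine not_binary_lift (g₁ := 1) (g₂ := W) (g₃ := W * U * W⁻¹) (s := S) (t := W * u * W⁻¹)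
    ?_ ?_ ?_ ?_
  · simp only [inv_one, one_mul, mul_one]
    exact mem_of_tau_sub hF h K hZ (one_mem _) (a := 1) (by rw [one_smul, hSe])
      (by rw [one_smul, one_smul]) (hfull _)
  · rw [show W⁻¹ * (W * u * W⁻¹) * W = u by group]
    exact mem_of_tau_sub hF h K hZ (one_mem _) (a := 1) (by rw [one_smul, hue])
      (by rw [one_smul, one_smul]) (hfull _)
  · refine mem_of_tau_sub hF h K hZ (inv_mem hg0) (a := ε⁻¹) ?_ (eigen_inv hF h he0) (hfull _)
    rw [mul_smul, hXe, mul_smul, mul_smul, hTv, smul_comm S⁻¹, inv_smul_smul, ← hXe,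
      smul_comm (W * U * W⁻¹)⁻¹, inv_smul_smul]
  · intro d hd1 hd2 hd3
    have hd : d ∈ K := by simpa using hd1
    obtain ⟨a, hda⟩ := hstab d hd
    obtain ⟨c, hdc⟩ := hstab _ hd2
    have hdf : d • f = c • f := by
      rw [mul_smul, hWe, mul_smul, inv_smul_eq_iff, smul_comm W, hWe] at hdc
      exact hdc
    obtain ⟨k, hk⟩ := hstab _ hd3
    rw [mul_smul, hXe, mul_smul, inv_smul_eq_iff, smul_comm (W * U * W⁻¹), hXe, mul_smul,
      inv_smul_eq_iff, hSv, smul_comm d, smul_add, hda, hdf] at hk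
    have h5 := congrArg (fun v => herm q v w) hk
    simp [herm_add_left, herm_smul_left, h.ew hF, h.fw hF, h.ww] at h5
    exact hν0 h5

omit h in
/-- An element with non-real multiplier exists. -/
theorem exists_mult_not_real (hq : 4 ≤ q) :
    ∃ a : F, a ≠ 0 ∧ mult q a + mult q a ^ q ≠ 0 := by
  by_contra hcon
  push Not at hcon
  obtain ⟨g, hg⟩ := IsCyclic.exists_ofOrder_eq_natCard (α := Fˣ)
  rw [Nat.card_units, Nat.card_eq_fintype_card, hF] at hg
  have h1 := CharTwo.add_eq_zero.1 (hcon g g.ne_zero)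
  have h2 : ((g : F)) ^ ((q + (q - 1)) * q) = (g : F) ^ (q + (q - 1)) := by
    rw [pow_mul, pow_add]; exact h1.symm
  rw [← Units.val_pow_eq_pow_val, ← Units.val_pow_eq_pow_val, Units.val_inj,
    pow_eq_pow_iff_modEq, hg] at h2
  obtain ⟨m, rfl⟩ : ∃ m, q = m + 4 := ⟨q - 4, by omega⟩
  have h3 : (m + 4) ^ 2 - 1 ∣ (m + 4 + (m + 4 - 1)) * (m + 4) - (m + 4 + (m + 4 - 1)) :=
    (Nat.modEq_iff_dvd' (Nat.le_mul_of_pos_right _ (by omega))).1 h2.symm
  rw [show m + 4 - 1 = m + 3 from rfl, ← Nat.mul_sub_one,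
    show m + 4 - 1 = m + 3 from rfl,
    show (m + 4) ^ 2 - 1 = (m + 5) * (m + 3) by
      rw [show (m + 4) ^ 2 = (m + 5) * (m + 3) + 1 by ring]; omega] at h3
  obtain ⟨k, hk⟩ := Nat.dvd_of_mul_dvd_mul_right (by omega) h3
  rcases Nat.lt_or_ge k 2 with hk2 | hk2
  · rcases Nat.lt_or_ge k 1 with hk1 | hk1
    · rw [show k = 0 by omega] at hk; omega
    · rw [show k = 1 by omega] at hk; omega
  · have := Nat.mul_le_mul_left (m + 5) hk2
    omega

/-- A translation, when the eigenvalues of norm one have trivial multiplier. -/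
theorem not_binary_triangle (hq : 4 ≤ q) (hZ : rootGroup hF h.ee ≤ K)
    (hstab : ∀ g ∈ K, ∃ c : F, g • e = c • e) {Δ : F} (hΔ : Δ ∈ zset hF K h) (hΔ0 : Δ ≠ 0)
    (hreal : ∀ g ∈ K, ∀ c : F, g • e = c • e → c * c ^ q = 1 → mult q c = 1) :
    ¬ IsBinary H := by
  have h2 : (2 : F) = 0 := CharTwo.two_eq_zero
  have hqi : ∀ x : F, (x ^ q) ^ q = x := pow_q_pow_q hF
  obtain ⟨β, hβ⟩ := exists_trace_eq hF (t := (1 : F)) (one_pow q)
  have hβ0 : β ≠ 0 := by
    rintro rfl
    rw [zero_pow_q hF, add_zero] at hβ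
    exact zero_ne_one hβ
  obtain ⟨a0, ha00, ha0⟩ := exists_mult_not_real hF hq
  obtain ⟨w0, hw0⟩ : ∃ w0, w0 = Δ * β := ⟨_, rfl⟩
  have hw00 : w0 ≠ 0 := hw0 ▸ mul_ne_zero hΔ0 hβ0
  obtain ⟨r, hr⟩ : ∃ r, r = w0 * w0 ^ q / (mult q a0 + mult q a0 ^ q) := ⟨_, rfl⟩
  have hrq : r ^ q = r := by
    rw [hr, div_pow, mul_pow, hqi, add_pow_q hF, hqi, mul_comm, add_comm]
  have hr0 : r ≠ 0 := hr ▸ div_ne_zero (mul_ne_zero hw00 (pow_ne_zero _ hw00)) ha0
  obtain ⟨a1, ha1⟩ : ∃ a1, a1 = r * a0 := ⟨_, rfl⟩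
  have ha10 : a1 ≠ 0 := ha1 ▸ mul_ne_zero hr0 ha00
  obtain ⟨α, hα⟩ : ∃ α, α = mult q a1 := ⟨_, rfl⟩
  have hα0 : α ≠ 0 := hα ▸ mult_ne_zero ha10
  have hαq0 : α ^ q ≠ 0 := pow_ne_zero _ hα0
  have hαt : α + α ^ q = w0 * w0 ^ q := by
    rw [hα, ha1, mult_mul, mult_real hF hr0 hrq, mul_pow, hrq, ← mul_add, hr,
      div_mul_cancel₀ _ ha0]
  have hα3 : mult q (a1 ^ (q - 1)) = α ^ q / α := by
    rw [← pow_q_sub_one hF hα0, hα]
    simp only [mult, mul_pow, ← pow_mul]
    rw [Nat.mul_comm q (q - 1)]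
  obtain ⟨bS, hbS⟩ : ∃ bS, bS = Δ * Δ ^ q * β := ⟨_, rfl⟩
  have hNq : (Δ * Δ ^ q) ^ q = Δ * Δ ^ q := by rw [mul_pow, hqi, mul_comm]
  obtain ⟨S, hSe, hSf, hSw⟩ := exists_unip hF h (z := Δ) (b := bS) (by
    rw [hbS, mul_pow _ β, hNq]; linear_combination (Δ * Δ ^ q) * hβ + (Δ * Δ ^ q) * h2)
  obtain ⟨u, hue, huf, huw⟩ := exists_unip hF h (z := Δ / α) (b := bS / (α * α ^ q)) (by
    rw [div_pow, div_pow, hbS, mul_pow _ β, hNq, mul_pow α, hqi]
    field_simp
    linear_combination (Δ * Δ ^ q) * hβ + (Δ * Δ ^ q) * h2)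
  obtain ⟨U, hUe, hUf, hUw⟩ := exists_unip hF h (z := w0 / α) (b := α⁻¹) (by
    rw [div_pow, inv_pow]
    field_simp
    linear_combination hαt + (w0 * w0 ^ q) * h2)
  obtain ⟨D, hDe, -, -⟩ := exists_diag hF h ha10
  obtain ⟨D', hD'e, -, -⟩ := exists_diag hF h (a := a1 ^ (q - 1)) (pow_ne_zero _ ha10)
  obtain ⟨W, hWe, hWf, hWw⟩ := exists_flip hF h
  have hWe' : W⁻¹ • e = f := by rw [inv_smul_eq_iff, hWf]
  have hWf' : W⁻¹ • f = e := by rw [inv_smul_eq_iff, hWe]
  have hWw' : W⁻¹ • w = w := by rw [inv_smul_eq_iff, hWw]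
  obtain ⟨v, hv⟩ : ∃ v, v = α • e + f + w0 • w := ⟨_, rfl⟩
  have hSv : S • v = α • e + f + (Δ + w0) • w := by
    simp only [hv, smul_add, lin, hSe, hSf, hSw, smul_smul]
    match_scalars <;> simp only [hbS, hw0] <;> ring
  have hTv : (W * u * W⁻¹) • v = S • v := by
    rw [hSv]
    rw [hv, mul_smul (W * u), mul_smul W]
    simp only [smul_add, lin, hWe', hWf', hWw', hue, huf, huw, hWe, hWf, hWw]
    simp only [smul_smul]
    match_scalars <;> simp only [hbS, hw0, div_pow] <;> field_simp <;> ring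
  obtain ⟨X, hX⟩ : ∃ X, X = W * U * W⁻¹ := ⟨_, rfl⟩
  have hXe : α • (X • e) = v := by
    rw [hv, hX, mul_smul, hWe', mul_smul, hUf]
    simp only [smul_add, smul_comm W, hWe, hWf, hWw, smul_smul]
    match_scalars <;> field_simp
  have hXf : X • f = f := by rw [hX, mul_smul, hWf', mul_smul, hUe, hWe]
  have hXw : X • w = -((w0 / α) ^ q) • f + w := by
    rw [hX, mul_smul, hWw', mul_smul, hUw, smul_add, smul_comm W, hWe, hWw]
  have hP : (S⁻¹ * (W * u * W⁻¹)) • v = v := by rw [mul_smul, hTv, inv_smul_smul]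
  have hu'e : (X⁻¹ * (S⁻¹ * (W * u * W⁻¹)) * X) • e = e := by
    refine smul_right_injective _ hα0 ?_
    show α • _ = α • e
    rw [mul_smul, mul_smul, ← lin, ← lin, hXe, hP, ← hXe, lin, inv_smul_smul]
  set u' := X⁻¹ * (S⁻¹ * (W * u * W⁻¹)) * X with hu'
  have hu't : tau q f w (1 : F) u' = Δ * (α ^ q / α) := by
    obtain ⟨b', z', k1, -, -⟩ := coords_unip hF h hu'e
    rw [tau, one_pow, one_mul, (zb_unip hF h k1).2]
    have hSw' : S⁻¹ • w = (Δ ^ q) • e + w := by
      rw [inv_smul_eq_iff, smul_add, smul_comm S, hSe, hSw]; module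
    have hSf' : S⁻¹ • f = -(bS + Δ * Δ ^ q) • e + f + (-Δ) • w := by
      rw [inv_smul_eq_iff]
      simp only [smul_add, lin, hSe, hSf, hSw, smul_smul]
      match_scalars <;> ring
    have k2 : X • (u' • f) = X • (b' • e + f + z' • w) := by rw [k1]
    rw [hu', mul_smul _ X, hXf, mul_smul X⁻¹, smul_inv_smul, mul_smul S⁻¹,
      show (W * u * W⁻¹) • f = f by rw [mul_smul, hWf', mul_smul, hue, hWe], hSf', smul_add X,
      smul_add X, lin X b', hXf, lin X z', hXw] at k2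
    have hXe' : X • e = α⁻¹ • v := by rw [← hXe, smul_smul, inv_mul_cancel₀ hα0, one_smul]
    rw [hXe', hv] at k2
    have kf := congrArg (fun y => herm q y f) k2
    have kw := congrArg (fun y => herm q y w) k2
    simp [herm_add_left, herm_neg_left, herm_smul_left, h.ef, h.ff, h.wf, h.ew hF, h.fw hF, h.ww,
      hα0] at kf kw
    subst kf
    rw [hbS] at kw
    field_simp at kw ⊢
    have hββ : w0 * w0 ^ q = Δ * Δ ^ q * β * β ^ q := by rw [hw0, mul_pow]; ring
    linear_combination -kw - Δ * hαt - Δ * hββ + (Δ * Δ ^ q * (1 + β)) * hw0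
      - (Δ * Δ * Δ ^ q * β) * hβ + (Δ * Δ * Δ ^ q * β * β) * h2
  refine not_binary_lift (g₁ := 1) (g₂ := W * D⁻¹) (g₃ := X * D') (s := S) (t := W * u * W⁻¹)
    ?_ ?_ ?_ ?_
  · simp only [inv_one, one_mul, mul_one]
    refine mem_of_tau_sub hF h K hZ (one_mem _) (a := 1) (by rw [one_smul, hSe])
      (by rw [one_smul, one_smul]) ?_
    rw [tau_one hF h, sub_zero, tau_unip hF h (zb_unip hF h hSf).2]
    exact hΔ
  · rw [show (W * D⁻¹)⁻¹ * (W * u * W⁻¹) * (W * D⁻¹) = D * u * D⁻¹ by group]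
    obtain ⟨h1, h3⟩ := tau_conj' hF h hDe (show u • e = (1 : F) • e by rw [one_smul, hue])
    refine mem_of_tau_sub hF h K hZ (one_mem _) (a := 1) h1 (by rw [one_smul, one_smul]) ?_
    rw [tau_one hF h, sub_zero, h3, mult_one, sub_self, zero_mul, add_zero,
      tau_unip hF h (zb_unip hF h huf).2, ← hα, mul_div_cancel₀ _ hα0]
    exact hΔ
  · rw [show (X * D')⁻¹ * (S⁻¹ * (W * u * W⁻¹)) * (X * D') = D'⁻¹ * u' * D' by rw [hu']; group]
    obtain ⟨h1, h3⟩ := tau_conj hF h hD'e (show u' • e = (1 : F) • e by rw [one_smul, hu'e])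
    refine mem_of_tau_sub hF h K hZ (one_mem _) (a := 1) h1 (by rw [one_smul, one_smul]) ?_
    rw [tau_one hF h, sub_zero, h3, mult_one, sub_self, zero_mul, add_zero, hu't, mult_inv, hα3]
    convert hΔ using 1
    field_simp
  · intro d hd1 hd2 hd3
    have hd : d ∈ K := by simpa using hd1
    obtain ⟨a, hda⟩ := hstab d hd
    obtain ⟨c, hdc⟩ := hstab _ hd2
    have hdf : d • f = c • f := by
      have h5 := congrArg (fun y => (W * D⁻¹) • (a1 • y)) hdc
      simp only [mul_smul (W * D⁻¹)⁻¹, mul_smul ((W * D⁻¹)⁻¹ * d), lin, smul_inv_smul] at h5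
      rw [← lin d a1, show a1 • ((W * D⁻¹) • e) = f by
        rw [mul_smul, eigen_inv hF h hDe, lin, hWe, smul_inv_smul₀ ha10]] at h5
      rw [h5, smul_comm a1 c, show a1 • ((W * D⁻¹) • e) = f by
        rw [mul_smul, eigen_inv hF h hDe, lin, hWe, smul_inv_smul₀ ha10]]
    obtain ⟨b, z, -, g1, g2, -⟩ := h.exists_coords hF hda
    have hca : c = (a ^ q)⁻¹ := by
      have := congrArg (fun y => herm q y e) (hdf.symm.trans g1)
      simpa [herm_add_left, herm_smul_left, h.ee, h.fe hF, h.we] using this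
    have hz : z = 0 := by
      have := congrArg (fun y => herm q y w) (hdf.symm.trans g1)
      simpa [herm_add_left, herm_smul_left, h.ew hF, h.fw hF, h.ww] using this.symm
    rw [hz, zero_pow_q hF, mul_zero, neg_zero, zero_smul, zero_add] at g2
    obtain ⟨k, hk⟩ := hstab _ hd3
    have h6 := congrArg (fun y => (α / a1 ^ (q - 1)) • ((X * D') • y)) hk
    simp only [mul_smul (X * D')⁻¹, mul_smul ((X * D')⁻¹ * (d⁻¹ * S)), smul_inv_smul, lin] at h6
    have hXD : (α / a1 ^ (q - 1)) • ((X * D') • e) = v := by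
      rw [mul_smul, hD'e, lin, smul_smul, div_mul_cancel₀ _ (pow_ne_zero _ ha10), hXe]
    have hk2 : (d⁻¹ * S) • v = k • v := by
      conv_lhs => rw [← hXD]
      conv_rhs => rw [← hXD]
      rw [lin, h6, smul_comm]
    rw [mul_smul, inv_smul_eq_iff, hSv, lin d, hv, smul_add d, smul_add d, lin d, lin d w0, hda,
      hdf, g2, hca] at hk2
    have k1 := congrArg (fun y => herm q y f) hk2
    have k2 := congrArg (fun y => herm q y e) hk2
    have k3 := congrArg (fun y => herm q y w) hk2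
    simp [herm_add_left, herm_smul_left, h.ee, h.ef, h.fe hF, h.ff, h.we, h.wf, h.ew hF, h.fw hF,
      h.ww] at k1 k2 k3
    have ha := eigen_ne_zero hF h hda
    have haq : a ^ q ≠ 0 := pow_ne_zero _ ha
    have hkq : k = a ^ q := by field_simp at k2; exact k2.symm
    subst hkq
    have hn : a * a ^ q = 1 := mul_left_cancel₀ hα0 (by linear_combination -k1)
    have hm := hreal d hd a hda hn
    rw [mult] at hm
    exact hΔ0 (by linear_combination k3 + w0 * hm)

end Cfsg.Agent.BinaryOne28
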